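import Cfsg.Agent.Lib.SmallSimple.Below6233.CasesB

/-!
# The orders 4536 and 4680
-/

set_option autoImplicit false
set_option linter.style.haveILetI false
set_option linter.unusedSectionVars false

namespace Cfsg.Agent.SmallSimple.Below6233

open Subgroup MulAction

universe u

variable {G : Type u} [Group G] [Finite G] [IsSimpleGroup G]

omit [IsSimpleGroup G] in
/-- If `C(t)` has a single Sylow subgroup `P`, then `N(⟨t⟩) ≤ N(P)`. -/
theorem normalizer_zpowers_le {p : ℕ} [Fact p.Prime] (P : Sylow p G) {t : G}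
    (hPC : (P : Subgroup G) ≤ centralizer ({t} : Set G))
    (h1 : Nat.card (Sylow p (centralizer ({t} : Set G))) = 1) :
    normalizer ((zpowers t : Subgroup G) : Set G) ≤ normalizer ((P : Subgroup G) : Set G) := by
  intro g hg
  rw [← smul_sylow_eq_iff]
  have hgP : ((g • P : Sylow p G) : Subgroup G) ≤ centralizer ({t} : Set G) := by
    intro y hy
    rw [Sylow.coe_subgroup_smul] at hy
    obtain ⟨a, ha, rfl⟩ := Subgroup.mem_map.1 hy
    have h := (mem_normalizer_iff.1 (inv_mem hg) t).1 (mem_zpowers t)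
    rw [inv_inv] at h
    obtain ⟨i, hi⟩ := mem_zpowers_iff.1 h
    have hc : Commute a (g⁻¹ * t * g) := by
      rw [← hi]; exact (show Commute a t from mem_centralizer_singleton_iff.1 (hPC ha)).zpow_right i
    rw [mem_centralizer_singleton_iff]
    show g * a * g⁻¹ * t = t * (g * a * g⁻¹)
    calc g * a * g⁻¹ * t = g * (a * (g⁻¹ * t * g)) * g⁻¹ := by group
      _ = g * (g⁻¹ * t * g * a) * g⁻¹ := by rw [hc.eq]
      _ = t * (g * a * g⁻¹) := by group
  haveI := (Nat.card_eq_one_iff_unique.1 h1).1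
  exact Sylow.subtype_injective (Subsingleton.elim ((g • P).subtype hgP) (P.subtype hPC))

omit [IsSimpleGroup G] in
/-- An element of odd order inverting or fixing `t` commutes with it. -/
theorem commute_of_odd {t w : G} (hw : Odd (orderOf w))
    (h : w * t * w⁻¹ = t ∨ w * t * w⁻¹ = t⁻¹) : w ∈ centralizer ({t} : Set G) := by
  have h2 : w ^ 2 ∈ centralizer ({t} : Set G) := by
    rw [mem_centralizer_singleton_iff, ← mul_inv_eq_iff_eq_mul]
    calc w ^ 2 * t * (w ^ 2)⁻¹ = w * (w * t * w⁻¹) * w⁻¹ := by rw [pow_two]; group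
      _ = t := by
        rcases h with h | h
        · rw [h, h]
        · rw [h, show w * t⁻¹ * w⁻¹ = (w * t * w⁻¹)⁻¹ by group, h, inv_inv]
  obtain ⟨j, hj⟩ := hw
  have : w = (w ^ 2) ^ (j + 1) := by
    rw [← pow_mul, show 2 * (j + 1) = orderOf w + 1 by omega, pow_succ, pow_orderOf_eq_one, one_mul]
  rw [this]
  exact pow_mem h2 _

omit [IsSimpleGroup G] in
theorem mem_zpowers_three {t v : G} (ht : orderOf t = 3) (hv : v ∈ zpowers t) :
    v = 1 ∨ v = t ∨ v = t⁻¹ := by
  obtain ⟨i, rfl⟩ := Submonoid.mem_powers_iff _ _ |>.1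
    ((isOfFinOrder_of_finite t).mem_powers_iff_mem_zpowers.2 hv)
  rw [← pow_mod_orderOf, ht]
  have hi : i % 3 < 3 := Nat.mod_lt _ (by norm_num)
  have h3 : t⁻¹ = t ^ 2 := inv_eq_of_mul_eq_one_right (by
    rw [← pow_succ', show 2 + 1 = orderOf t by rw [ht], pow_orderOf_eq_one])
  rw [h3]
  interval_cases i % 3 <;> simp

theorem card_ne_4536 (hG : ¬ IsMulCommutative G) : Nat.card G ≠ 4536 := by
  classical
  intro hn
  haveI : Fact (Nat.Prime 7) := ⟨by norm_num⟩
  haveI : Fact (Nat.Prime 3) := ⟨by norm_num⟩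
  haveI : Fact (Nat.Prime 2) := ⟨Nat.prime_two⟩
  obtain ⟨P⟩ := (inferInstance : Nonempty (Sylow 7 G))
  obtain ⟨d, c, hmem, hd, hC, hN, hP⟩ :=
    exists_opt hG (p := 7) (m := 648) (by decide) hn (by norm_num) (by norm_num) P
  rw [show opts 7 4536 648 = [(36, 3), (36, 6), (162, 2)] by decide +kernel] at hmem
  simp only [List.mem_cons, List.not_mem_nil, or_false, Prod.mk.injEq] at hmem
  obtain ⟨x, hxP, hx⟩ := exists_order (r := 7) (H := (P : Subgroup G)) hP.symm.dvd
  have hcase : (d = 36 ∧ 3 ∣ c ∧ c ∣ 6) ∨ (d = 162 ∧ c = 2) := by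
    rcases hmem with ⟨rfl, rfl⟩ | ⟨rfl, rfl⟩ | ⟨rfl, rfl⟩ <;> norm_num
  clear hmem
  rcases hcase with ⟨rfl, hc3, hc6⟩ | ⟨rfl, rfl⟩
  swap
  · -- an involution with a small centraliser
    obtain ⟨t, htC, ht⟩ := exists_order (r := 2) (H := centralizer ((P : Subgroup G) : Set G))
      (by rw [hC]; norm_num)
    have ht1 : t ≠ 1 := fun h => by rw [h, orderOf_one] at ht; omega
    have hne := centralizer_singleton_ne_top hG ht1
    obtain ⟨a, -, ha, hmul⟩ := exists_count P (H := centralizer ({t} : Set G))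
      fun y hy => mem_centralizer_pair htC hy
    have h14 := mul_dvd_inf (by norm_num) P hP ht htC
    have h28 := Subgroup.card_dvd_of_le (inf_le_left : normalizer ((P : Subgroup G) : Set G) ⊓
      centralizer ({t} : Set G) ≤ _)
    rw [show Nat.card (normalizer ((P : Subgroup G) : Set G)) = 28 by omega] at h28
    have hidx := five_le_index hG hne
    have hG' := Subgroup.card_mul_index (centralizer ({t} : Set G))
    rw [← hmul, hn] at hG'
    have key : ∀ a < 66, ∀ y ≤ 28, (a % 7 = 1 ∧ 14 ∣ y ∧ y ∣ 28 ∧ a * y ∣ 4536 ∧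
        5 * (a * y) ≤ 4536) → ¬ 8 ∣ a * y ∨ a * y = 504 := by decide +kernel
    have hy14 := Nat.le_of_dvd Nat.card_pos h14
    have hay : 5 * (a * Nat.card ↥(normalizer ((P : Subgroup G) : Set G) ⊓ centralizer ({t} : Set G)))
        ≤ 4536 := by
      rw [← hG', mul_comm 5]
      exact Nat.mul_le_mul_left _ hidx
    have ha66 : a < 66 := by
      generalize Nat.card ↥(normalizer ((P : Subgroup G) : Set G) ⊓ centralizer ({t} : Set G)) = y at hy14 hay
      nlinarith
    rcases key a ha66 _ (Nat.le_of_dvd (by norm_num) h28) ⟨ha, h14, h28, Dvd.intro _ hG', hay⟩ with h | h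
    · exact false_of_half hG (k := 567) (by rw [hn]) (by norm_num) ht (hmul ▸ h)
    · rw [h] at hG'
      obtain ⟨s, b, f, h1, h2, h3, h4, h5, h6, h7, h8, h9, -⟩ :=
        exists_fixed_counts hG hne hx ht (htC x hxP)
      have h9' := h9 rfl
      have : (centralizer ({t} : Set G)).index = 9 := by omega
      rw [this] at *
      omega
  set N := normalizer ((P : Subgroup G) : Set G) with hNdef
  set C := centralizer ((P : Subgroup G) : Set G) with hCdef
  have hN126 : Nat.card N = 126 := by omega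
  obtain ⟨t, htC, ht⟩ := exists_order (r := 3) (H := C) (by rw [hC]; exact dvd_mul_of_dvd_right hc3 7)
  have ht1 : t ≠ 1 := fun h => by rw [h, orderOf_one] at ht; omega
  have hxt : Commute x t := htC x hxP
  haveI : IsMulCommutative (P : Subgroup G) := (isCyclic_of_prime_card hP).isMulCommutative
  have hord : orderOf (x * t) = 21 := by
    rw [hxt.orderOf_mul_eq_mul_orderOf_of_coprime (by rw [hx, ht]; norm_num), hx, ht]
  have hM : zpowers (x * t) ≤ C :=
    zpowers_le.2 (mul_mem (le_centralizer (P : Subgroup G) hxP) htC)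
  -- the `3`-elements of `C(P)`
  have h3C : ∀ u ∈ C, ∀ k, u ^ 3 ^ k = 1 → u ∈ zpowers t := by
    intro u hu k hk
    have hu3 : u ^ 3 = 1 := by
      have h1 := orderOf_dvd_natCard C hu
      obtain ⟨j, -, hj⟩ := (Nat.dvd_prime_pow Nat.prime_three).1 (orderOf_dvd_of_pow_eq_one hk)
      rw [hC, hj] at h1
      rw [← orderOf_dvd_iff_pow_eq_one, hj]
      by_contra hcon
      rcases Nat.lt_or_ge j 2 with h | h
      · interval_cases j <;> norm_num at hcon
      · have h9 : 9 ∣ 7 * c := (pow_dvd_pow 3 h).trans h1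
        have : 9 ∣ 7 * 6 := h9.trans (mul_dvd_mul_left 7 hc6)
        norm_num at this
    have hu' : u ∈ zpowers (x * t) := by
      have hidx : (zpowers (x * t)).relIndex C ≤ 2 := by
        have h := Subgroup.card_mul_index ((zpowers (x * t)).subgroupOf C)
        rw [Nat.card_congr (subgroupOfEquivOfLe hM).toEquiv, Nat.card_zpowers, hord, hC] at h
        have := Nat.le_of_dvd (by norm_num) hc6
        show ((zpowers (x * t)).subgroupOf C).index ≤ 2
        omega
      have hmem : u ^ 2 ∈ zpowers (x * t) := by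
        rcases Nat.lt_or_ge ((zpowers (x * t)).relIndex C) 2 with h | h
        · have h0 : (zpowers (x * t)).relIndex C ≠ 0 := Subgroup.index_ne_zero_of_finite
          have hCle : C ≤ zpowers (x * t) := relIndex_eq_one.1 (by omega)
          exact pow_mem (hCle hu) 2
        · have h2 : ((zpowers (x * t)).subgroupOf C).index = 2 := le_antisymm hidx h
          haveI := normal_of_index_eq_two h2
          have := Subgroup.pow_index_mem ((zpowers (x * t)).subgroupOf C) ⟨u, hu⟩
          rw [h2] at this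
          simpa [mem_subgroupOf] using this
      have : u = (u ^ 2) ^ 2 := by rw [← pow_mul, show 2 * 2 = 3 + 1 from rfl, pow_succ, hu3, one_mul]
      rw [this]
      exact pow_mem hmem 2
    obtain ⟨i, rfl⟩ := Submonoid.mem_powers_iff _ _ |>.1
      ((isOfFinOrder_of_finite (x * t)).mem_powers_iff_mem_zpowers.2 hu')
    have h7 : 7 ∣ i := by
      have h := orderOf_dvd_of_pow_eq_one (show (x * t) ^ (i * 3) = 1 by rw [pow_mul, hu3])
      rw [hord] at h
      omega
    obtain ⟨l, rfl⟩ := h7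
    rw [hxt.mul_pow, pow_mul x, show x ^ 7 = 1 by rw [← hx]; exact pow_orderOf_eq_one x, one_pow, one_mul]
    exact pow_mem (mem_zpowers t) _
  have hNt : ∀ g ∈ N, g * t * g⁻¹ = t ∨ g * t * g⁻¹ = t⁻¹ := fun g hg => by
    have ho : orderOf (g * t * g⁻¹) = 3 := by rw [← MulAut.conj_apply, MulEquiv.orderOf_eq, ht]
    rcases mem_zpowers_three ht (h3C _ (conj_mem_centralizer hg htC) 1
      (by rw [pow_one, ← ho, pow_orderOf_eq_one])) with h | h | h
    · rw [h, orderOf_one] at ho; omega
    · exact Or.inl h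
    · exact Or.inr h
  have hodd : ∀ {w : G} {k : ℕ}, w ^ 3 ^ k = 1 → Odd (orderOf w) := fun {w k} hk => by
    obtain ⟨j, -, hj⟩ := (Nat.dvd_prime_pow Nat.prime_three).1 (orderOf_dvd_of_pow_eq_one hk)
    rw [hj]
    exact (by decide : Odd 3).pow
  set CT := centralizer ({t} : Set G) with hCTdef
  have hne := centralizer_singleton_ne_top hG ht1
  have hPC : (P : Subgroup G) ≤ CT := fun y hy => mem_centralizer_pair htC hy
  have h63 : 63 ∣ Nat.card ↥(N ⊓ CT) := by
    obtain ⟨T, hT⟩ := Sylow.exists_subgroup_card_pow_prime (G := N) 3 (n := 2) (by rw [hN126]; norm_num)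
    have hle : T.map N.subtype ≤ N ⊓ CT := by
      rintro _ ⟨w, hw, rfl⟩
      refine mem_inf.2 ⟨w.2, commute_of_odd (hodd (k := 2) ?_) (hNt _ w.2)⟩
      have := orderOf_dvd_natCard T hw
      rw [hT] at this
      rw [← orderOf_dvd_iff_pow_eq_one]
      simpa using this
    have h9 := Subgroup.card_dvd_of_le hle
    rw [card_map_of_injective N.subtype_injective, hT] at h9
    have h7 := Subgroup.card_dvd_of_le (le_inf (le_normalizer (H := (P : Subgroup G))) hPC)
    rw [hP] at h7
    exact Nat.Coprime.mul_dvd_of_dvd_of_dvd (m := 7) (n := 9) (by norm_num) h7 h9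
  obtain ⟨a, hsyl, ha, hmul⟩ := exists_count P hPC
  have h126 : Nat.card ↥(N ⊓ CT) ∣ 126 := hN126 ▸ Subgroup.card_dvd_of_le inf_le_left
  have hidx := five_le_index hG hne
  have hG' := Subgroup.card_mul_index CT
  rw [← hmul, hn] at hG'
  have ha1 : a = 1 := by
    have hay : 5 * (a * Nat.card ↥(N ⊓ CT)) ≤ 4536 := by
      rw [← hG', mul_comm 5]
      exact Nat.mul_le_mul_left _ hidx
    have key : ∀ a < 16, ∀ y ≤ 126, (a % 7 = 1 ∧ 63 ∣ y ∧ y ∣ 126 ∧ a * y ∣ 4536 ∧
        5 * (a * y) ≤ 4536) → a = 1 ∨ a * y = 504 := by decide +kernel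
    have ha16 : a < 16 := by
      have := Nat.le_of_dvd Nat.card_pos h63
      generalize Nat.card ↥(N ⊓ CT) = y at this hay
      nlinarith
    rcases key a ha16 _ (Nat.le_of_dvd (by norm_num) h126) ⟨ha, h63, h126, Dvd.intro _ hG', hay⟩ with h | h
    · exact h
    · rw [h] at hG'
      obtain ⟨s, b, f, h1, h2, h3, h4, h5, h6, h7, h8, -, -⟩ :=
        exists_fixed_counts hG hne hx ht hxt
      have : (centralizer ({t} : Set G)).index = 9 := by show CT.index = 9; omega
      omega
  have hNT : normalizer ((zpowers t : Subgroup G) : Set G) ≤ N :=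
    normalizer_zpowers_le P hPC (hsyl.trans ha1)
  -- seven Sylow 3-subgroups through `t`
  obtain ⟨S, hS⟩ := (IsPGroup.of_card (p := 3) (n := 1) (G := zpowers t)
    (by rw [Nat.card_zpowers, ht, pow_one])).exists_le_sylow
  have h162 : ∀ Q : Sylow 3 G, Nat.card (normalizer ((Q : Subgroup G) : Set G)) = 162 := fun Q => by
    obtain ⟨hc, hm, -⟩ := mem_cands hG (p := 3) (e := 4) (m := 56) hn (by norm_num) (by norm_num)
      (by norm_num) Q
    rw [show cands 3 4536 56 = [28] by decide +kernel, List.mem_singleton] at hc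
    rw [hc] at hm
    omega
  have hfree : ∀ (Q : Sylow 3 G), ∀ z ∈ (P : Subgroup G), z • Q = Q → z = 1 := fun Q z hz h => by
    have h1 := orderOf_dvd_natCard (P : Subgroup G) hz
    have h2 := orderOf_dvd_natCard _ (smul_sylow_eq_iff.1 h)
    rw [hP] at h1
    rw [h162 Q] at h2
    exact orderOf_eq_one_iff.1 (Nat.eq_one_of_dvd_coprimes (by norm_num : Nat.Coprime 7 162) h1 h2)
  haveI := Fintype.ofFinite (P : Subgroup G)
  haveI := Fintype.ofFinite (Sylow 3 G)
  set F : Finset (Sylow 3 G) := Finset.univ.image fun z : (P : Subgroup G) => (z : G) • S with hFdef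
  have hFcard : F.card = 7 := by
    rw [hFdef, Finset.card_image_of_injective, Finset.card_univ, ← Nat.card_eq_fintype_card, hP]
    intro z z' h
    have h' : ((z : G)⁻¹ * z') • S = S := by rw [mul_smul]; exact inv_smul_eq_iff.2 h.symm
    exact Subtype.ext (inv_mul_eq_one.1 (hfree S _ (mul_mem (inv_mem z.2) z'.2) h'))
  have htF : ∀ Q ∈ F, t ∈ (Q : Subgroup G) := by
    intro Q hQ
    obtain ⟨z, -, rfl⟩ := Finset.mem_image.1 hQ
    rw [Sylow.coe_subgroup_smul]
    refine ⟨t, hS (mem_zpowers t), ?_⟩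
    show (z : G) * t * (z : G)⁻¹ = t
    rw [htC z z.2, mul_inv_cancel_right]
  have hexact : ∀ Q ∈ F, ∀ R ∈ F, Q ≠ R → (Q : Subgroup G) ⊓ (R : Subgroup G) = zpowers t := by
    intro Q hQ R hR hne'
    by_contra hcon
    have hlt : zpowers t < (Q : Subgroup G) ⊓ (R : Subgroup G) := lt_of_le_of_ne
      (le_inf (zpowers_le.2 (htF Q hQ)) (zpowers_le.2 (htF R hR))) (Ne.symm hcon)
    obtain ⟨w, hw, hwt⟩ := SetLike.exists_of_lt (lt_inf_normalizer Q.isPGroup'.to_inf_left hlt)
    obtain ⟨⟨hwQ, hwR⟩, hwN⟩ := hw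
    obtain ⟨k, hk⟩ : ∃ k : ℕ, w ^ 3 ^ k = 1 := by
      obtain ⟨k, hk⟩ := Q.isPGroup' ⟨w, hwQ⟩
      exact ⟨k, congrArg Subtype.val hk⟩
    have hwP : w ∈ N := hNT hwN
    have hwC : w ∉ C := fun h => hwt (h3C w h k hk)
    obtain ⟨z, -, rfl⟩ := Finset.mem_image.1 hQ
    obtain ⟨z', -, rfl⟩ := Finset.mem_image.1 hR
    obtain ⟨u, huP, hu⟩ : ∃ u ∈ (P : Subgroup G), ((z' : G) • S) = u • ((z : G) • S) :=
      ⟨z' * (z : G)⁻¹, mul_mem z'.2 (inv_mem z.2), by rw [← mul_smul, inv_mul_cancel_right]⟩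
    have hfix1 : w • ((z : G) • S) = (z : G) • S := smul_sylow_eq_iff.2 (le_normalizer hwQ)
    have hfix2 : w • (u • ((z : G) • S)) = u • ((z : G) • S) := hu ▸ smul_sylow_eq_iff.2 (le_normalizer hwR)
    have huu : u⁻¹ * (w * u * w⁻¹) ∈ (P : Subgroup G) :=
      mul_mem (inv_mem huP) ((mem_normalizer_iff.1 hwP u).1 huP)
    have heq := hfree _ _ huu (by
      rw [mul_smul, mul_smul, mul_smul, inv_smul_eq_iff.2 hfix1.symm, hfix2, inv_smul_smul])
    have hu1 : u ≠ 1 := fun h => hne' (by rw [hu, h, one_smul])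
    have hgen : zpowers u = (P : Subgroup G) := by
      refine eq_of_le_of_card_ge (zpowers_le.2 huP) ?_
      rw [Nat.card_zpowers, hP]
      have hdu := orderOf_dvd_natCard (P : Subgroup G) huP
      rw [hP] at hdu
      rcases (by norm_num : Nat.Prime 7).eq_one_or_self_of_dvd _ hdu with h | h
      · exact absurd (orderOf_eq_one_iff.1 h) hu1
      · exact h.ge
    refine hwC (mem_centralizer_iff.2 fun b hb => ?_)
    rw [← hgen] at hb
    obtain ⟨i, rfl⟩ := mem_zpowers_iff.1 hb
    exact ((show Commute w u from mul_inv_eq_iff_eq_mul.1 (inv_mul_eq_one.1 heq).symm).zpow_right i).eq.symm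
  have hcount := pair_count (zpowers t) F hexact
  rw [hFcard] at hcount
  have h28 : Nat.card (Sylow 3 G) = 28 := by
    have := card_sylow_mul_card_normalizer S
    rw [h162 S, hn] at this
    omega
  rw [h28] at hcount
  have h36 : 36 ∣ (normalizer ((zpowers t : Subgroup G) : Set G)).index := by
    rw [← hd, Sylow.card_eq_index_normalizer P]
    exact index_dvd_of_le hNT
  have := Nat.le_of_dvd (Nat.pos_of_ne_zero Subgroup.index_ne_zero_of_finite) h36
  omega

theorem card_ne_4680 (hG : ¬ IsMulCommutative G) : Nat.card G ≠ 4680 := by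
  classical
  intro hn
  haveI : Fact (Nat.Prime 13) := ⟨by norm_num⟩
  haveI : Fact (Nat.Prime 5) := ⟨by norm_num⟩
  haveI : Fact (Nat.Prime 3) := ⟨by norm_num⟩
  obtain ⟨P⟩ := (inferInstance : Nonempty (Sylow 13 G))
  obtain ⟨d, c, hmem, -, hC, hN, hP⟩ :=
    exists_opt hG (p := 13) (m := 360) (by decide) hn (by norm_num) (by norm_num) P
  rw [show opts 13 4680 360 = [(40, 3)] by decide +kernel] at hmem
  simp only [List.mem_singleton, Prod.mk.injEq] at hmem
  obtain ⟨rfl, rfl⟩ := hmem
  set N := normalizer ((P : Subgroup G) : Set G) with hNdef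
  have hN117 : Nat.card N = 117 := by omega
  obtain ⟨t, htC, ht⟩ := exists_order (r := 3) (H := centralizer ((P : Subgroup G) : Set G))
    (by rw [hC]; norm_num)
  have ht1 : t ≠ 1 := fun h => by rw [h, orderOf_one] at ht; omega
  set CT := centralizer ({t} : Set G) with hCTdef
  have hne := centralizer_singleton_ne_top hG ht1
  have hPC : (P : Subgroup G) ≤ CT := fun y hy => mem_centralizer_pair htC hy
  obtain ⟨a, hsyl, ha, hmul⟩ := exists_count P hPC
  have ha1 : a = 1 := by
    have h39 := mul_dvd_inf (by norm_num) P hP ht htC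
    have h117 : Nat.card ↥(N ⊓ CT) ∣ 117 := hN117 ▸ Subgroup.card_dvd_of_le inf_le_left
    have hidx := five_le_index hG hne
    have hG' := Subgroup.card_mul_index CT
    rw [← hmul, hn] at hG'
    have hay : 5 * (a * Nat.card ↥(N ⊓ CT)) ≤ 4680 := by
      rw [← hG', mul_comm 5]
      exact Nat.mul_le_mul_left _ hidx
    have ha25 : a < 25 := by
      have := Nat.le_of_dvd Nat.card_pos h39
      generalize Nat.card ↥(normalizer ((P : Subgroup G) : Set G) ⊓ centralizer ({t} : Set G)) = y at this hay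
      nlinarith
    have key : ∀ a < 25, ∀ y ≤ 117, (a % 13 = 1 ∧ 39 ∣ y ∧ y ∣ 117 ∧ a * y ∣ 4680) → a = 1 := by
      decide +kernel
    exact key a ha25 _ (Nat.le_of_dvd (by norm_num) h117) ⟨ha, h39, h117, Dvd.intro _ hG'⟩
  have hNT : normalizer ((zpowers t : Subgroup G) : Set G) ≤ N :=
    normalizer_zpowers_le P hPC (hsyl.trans ha1)
  have hNC : normalizer ((zpowers t : Subgroup G) : Set G) ≤ CT := fun g hg => by
    have hd : orderOf g ∣ 117 := hN117 ▸ orderOf_dvd_natCard N (hNT hg)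
    refine commute_of_odd ((by decide : Odd 117).of_dvd_nat hd) ?_
    have ho : orderOf (g * t * g⁻¹) = 3 := by rw [← MulAut.conj_apply, MulEquiv.orderOf_eq, ht]
    rcases mem_zpowers_three ht ((mem_normalizer_iff.1 hg t).1 (mem_zpowers t)) with h | h | h
    · rw [h, orderOf_one] at ho; omega
    · exact Or.inl h
    · exact Or.inr h
  have hCTN : CT ≤ N := fun g hg => hNT (mem_normalizer_iff.2 fun b => by
    have hc : ∀ b ∈ zpowers t, Commute g b := fun b hb => by
      obtain ⟨i, rfl⟩ := mem_zpowers_iff.1 hb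
      exact (show Commute g t from mem_centralizer_singleton_iff.1 hg).zpow_right i
    constructor
    · intro hb; rwa [(hc b hb).eq, mul_inv_cancel_right]
    · intro hb
      have h := (hc _ hb).eq
      rw [inv_mul_cancel_right] at h
      rwa [(mul_left_cancel h : g * b * g⁻¹ = b)] at hb)
  obtain ⟨S, hS⟩ := (IsPGroup.of_card (p := 3) (n := 1) (G := zpowers t)
    (by rw [Nat.card_zpowers, ht, pow_one])).exists_le_sylow
  have hS9 : Nat.card (S : Subgroup G) = 3 ^ 2 :=
    card_sylow_subgroup (k := 2) (m := 520) (by rw [hn]; norm_num) (by norm_num) S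
  haveI := IsPGroup.isMulCommutative_of_card_eq_prime_sq hS9
  have htS : t ∈ (S : Subgroup G) := hS (mem_zpowers t)
  have hSC : (S : Subgroup G) ≤ CT := fun y hy => mem_centralizer_singleton_iff.2
    (congrArg Subtype.val (mul_comm' (⟨y, hy⟩ : (S : Subgroup G)) ⟨t, htS⟩))
  have hCTcard : Nat.card CT = 117 := by
    refine Nat.dvd_antisymm (hN117 ▸ Subgroup.card_dvd_of_le hCTN) ?_
    have h1 := Subgroup.card_dvd_of_le hSC
    have h2 := Subgroup.card_dvd_of_le hPC
    rw [hS9] at h1
    rw [hP] at h2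
    exact Nat.Coprime.mul_dvd_of_dvd_of_dvd (m := 9) (n := 13) (by norm_num) h1 h2
  -- the orbit of `t` under the normaliser of `S`
  set NS := normalizer ((S : Subgroup G) : Set G) with hNSdef
  have hst : Nat.card ↥(NS ⊓ CT) = 9 := by
    obtain ⟨a3, hsyl3, ha3, hmul3⟩ := exists_count S hSC
    rw [hCTcard, ← hNSdef] at hmul3
    rcases (by
      have hd3 : a3 ∣ 117 := Dvd.intro _ hmul3
      have hle := Nat.le_of_dvd (by norm_num) hd3
      have key : ∀ a ≤ 117, (a ∣ 117 ∧ a % 3 = 1) → a = 1 ∨ a = 13 := by decide +kernel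
      exact key a3 hle ⟨hd3, ha3⟩ : a3 = 1 ∨ a3 = 13) with rfl | rfl
    · exfalso
      have hPle : (P : Subgroup G) ≤ NS := fun y hy => by
        have hmem : y ∈ NS ⊓ CT := by
          have heq : NS ⊓ CT = CT :=
            eq_of_le_of_card_ge inf_le_right (by rw [hCTcard]; omega)
          rw [heq]; exact hPC hy
        exact hmem.1
      have hcomm : ∀ y ∈ (P : Subgroup G), ∀ s ∈ (S : Subgroup G), s * y = y * s := by
        intro y hy s hs
        have h1 : y * s * y⁻¹ * s⁻¹ ∈ (S : Subgroup G) :=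
          mul_mem ((mem_normalizer_iff.1 (hPle hy) s).1 hs) (inv_mem hs)
        have h2 : y * s * y⁻¹ * s⁻¹ ∈ (P : Subgroup G) := by
          rw [show y * s * y⁻¹ * s⁻¹ = y * (s * y⁻¹ * s⁻¹) by group]
          exact mul_mem hy ((mem_normalizer_iff.1 (hCTN (hSC hs)) _).1 (inv_mem hy))
        have h3 := orderOf_dvd_natCard _ h1
        have h4 := orderOf_dvd_natCard _ h2
        rw [hS9] at h3
        rw [hP] at h4
        have := orderOf_eq_one_iff.1 (Nat.eq_one_of_dvd_coprimes (by norm_num : Nat.Coprime (3 ^ 2) 13) h3 h4)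
        calc s * y = (y * s * y⁻¹ * s⁻¹) * (s * y) := by rw [this, one_mul]
          _ = y * s := by group
      have hSle : (S : Subgroup G) ≤ centralizer ((P : Subgroup G) : Set G) := fun s hs =>
        mem_centralizer_iff.2 fun y hy => (hcomm y hy s hs).symm
      have := Subgroup.card_dvd_of_le hSle
      rw [hS9, hC] at this
      norm_num at this
    · omega
  letI act : MulAction NS G := MulAction.compHom G ((MulAut.conj : G →* MulAut G).comp NS.subtype)
  have hact : ∀ (g : NS) (y : G), g • y = (g : G) * y * (g : G)⁻¹ := fun _ _ => rfl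
  have hstab : stabilizer NS t = CT.subgroupOf NS := by
    ext g
    rw [mem_stabilizer_iff, mem_subgroupOf, hact, hCTdef, mem_centralizer_singleton_iff,
      mul_inv_eq_iff_eq_mul]
  haveI := Fintype.ofFinite G
  set O : Finset G := Finset.univ.filter (fun y => y ∈ orbit NS t) with hOdef
  have hOcard : O.card * 9 = Nat.card NS := by
    rw [← card_orbit_mul_card_stabilizer (G := NS) t, hstab, ← inf_subgroupOf_left,
      Nat.card_congr (subgroupOfEquivOfLe inf_le_left).toEquiv, hst, hOdef, ← Fintype.card_subtype,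
      ← Nat.card_eq_fintype_card]
  have hOS : ∀ y ∈ O, y ∈ (S : Subgroup G) ∧ y ≠ 1 := by
    intro y hy
    obtain ⟨g, rfl⟩ := (Finset.mem_filter.1 hy).2
    simp only [hact]
    refine ⟨(mem_normalizer_iff.1 g.2 t).1 htS, fun h => ht1 ?_⟩
    exact conj_eq_one_iff.1 h
  have hdisj : Disjoint O (O.image fun y => y⁻¹) := by
    rw [Finset.disjoint_left]
    intro y hy hy'
    obtain ⟨z, hz, hzy⟩ := Finset.mem_image.1 hy'
    obtain ⟨g, rfl⟩ := (Finset.mem_filter.1 hy).2
    obtain ⟨g', hg'⟩ := (Finset.mem_filter.1 hz).2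
    simp only [hact] at hg' hzy
    rw [← hg'] at hzy
    have hgg : ((g' : G)⁻¹ * g) * t * ((g' : G)⁻¹ * g)⁻¹ = t⁻¹ := by
      calc ((g' : G)⁻¹ * g) * t * ((g' : G)⁻¹ * g)⁻¹
          = (g' : G)⁻¹ * ((g : G) * t * (g : G)⁻¹) * g' := by group
        _ = (g' : G)⁻¹ * ((g' : G) * t * (g' : G)⁻¹)⁻¹ * g' := by rw [hzy]
        _ = t⁻¹ := by group
    have hmemN : (g' : G)⁻¹ * g ∈ normalizer ((zpowers t : Subgroup G) : Set G) := by
      have hmap : (zpowers t).map (MulAut.conj ((g' : G)⁻¹ * g)).toMonoidHom = zpowers t := by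
        rw [MonoidHom.map_zpowers]
        show zpowers (((g' : G)⁻¹ * g) * t * ((g' : G)⁻¹ * g)⁻¹) = zpowers t
        rw [hgg, zpowers_inv]
      rw [mem_normalizer_iff]
      intro b
      conv_rhs => rw [← hmap]
      rw [show (g' : G)⁻¹ * g * b * ((g' : G)⁻¹ * g)⁻¹ =
        (MulAut.conj ((g' : G)⁻¹ * g)).toMonoidHom b from rfl,
        mem_map_iff_mem (MulAut.conj _).injective]
    have hc := mem_centralizer_singleton_iff.1 (hNC hmemN)
    rw [hc, mul_inv_cancel_right] at hgg
    have : t ^ 2 = 1 := by rw [pow_two]; exact eq_inv_iff_mul_eq_one.1 hgg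
    have := orderOf_dvd_of_pow_eq_one this
    rw [ht] at this
    norm_num at this
  have hsub : O ∪ (O.image fun y => y⁻¹) ⊆ Finset.univ.filter (fun y => y ∈ (S : Subgroup G) ∧ y ≠ 1) := by
    intro y hy
    refine Finset.mem_filter.2 ⟨Finset.mem_univ _, ?_⟩
    rcases Finset.mem_union.1 hy with h | h
    · exact hOS y h
    · obtain ⟨z, hz, rfl⟩ := Finset.mem_image.1 h
      exact ⟨inv_mem (hOS z hz).1, inv_ne_one.2 (hOS z hz).2⟩
  have h8 : (Finset.univ.filter (fun y => y ∈ (S : Subgroup G) ∧ y ≠ 1)).card = 8 := by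
    rw [show (Finset.univ.filter (fun y => y ∈ (S : Subgroup G) ∧ y ≠ 1)) =
      (Finset.univ.filter (fun y => y ∈ (S : Subgroup G))).erase 1 by ext y; simp [and_comm],
      Finset.card_erase_of_mem (by simp), ← Fintype.card_subtype, ← Nat.card_eq_fintype_card]
    show Nat.card (S : Subgroup G) - 1 = 8
    rw [hS9]; norm_num
  have hunion : (O ∪ O.image fun y => y⁻¹).card = 2 * O.card := by
    rw [Finset.card_union_of_disjoint hdisj, Finset.card_image_of_injective _ inv_injective]; ring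
  have hle8 := Finset.card_le_card hsub
  rw [hunion, h8] at hle8
  obtain ⟨hc3, hm3, -⟩ := mem_cands hG (p := 3) (e := 2) (m := 520) hn (by norm_num) (by norm_num)
    (by norm_num) S
  have h130 : Nat.card NS = 36 := by
    have key : ∀ d ∈ cands 3 4680 520, d ≤ 520 ∧ (d = 520 ∨ d ≤ 130) := by decide +kernel
    obtain ⟨-, h | h⟩ := key _ hc3
    · exfalso
      rw [h] at hm3
      refine false_of_self_normalizing hG S inferInstance (hn ▸ by norm_num)
        (eq_of_le_of_card_ge le_normalizer ?_).ge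
      rw [hS9]; omega
    · rw [← hNSdef] at hm3
      have : 4680 ≤ 130 * Nat.card NS := hm3 ▸ Nat.mul_le_mul_right _ h
      omega
  have hfull : O ∪ (O.image fun y => y⁻¹) = Finset.univ.filter (fun y => y ∈ (S : Subgroup G) ∧ y ≠ 1) :=
    Finset.eq_of_subset_of_card_le hsub (by rw [hunion, h8]; omega)
  -- an element of order 3 centralising an element of order 5
  obtain ⟨R⟩ := (inferInstance : Nonempty (Sylow 5 G))
  obtain ⟨d', c', hmem', -, hC', -, hR⟩ :=
    exists_opt hG (p := 5) (m := 936) (by decide) hn (by norm_num) (by norm_num) R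
  rw [show opts 5 4680 936 = [(156, 3)] by decide +kernel] at hmem'
  simp only [List.mem_singleton, Prod.mk.injEq] at hmem'
  obtain ⟨rfl, rfl⟩ := hmem'
  obtain ⟨v, hvC, hv⟩ := exists_order (r := 3) (H := centralizer ((R : Subgroup G) : Set G))
    (by rw [hC']; norm_num)
  obtain ⟨S', hS'⟩ := (IsPGroup.of_card (p := 3) (n := 1) (G := zpowers v)
    (by rw [Nat.card_zpowers, hv, pow_one])).exists_le_sylow
  obtain ⟨g, hg⟩ := MulAction.exists_smul_eq G S' S
  have hgv : g * v * g⁻¹ ∈ O ∪ O.image fun y => y⁻¹ := by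
    rw [hfull]
    refine Finset.mem_filter.2 ⟨Finset.mem_univ _, ?_, fun h => ?_⟩
    · rw [← hg, Sylow.coe_subgroup_smul]
      exact ⟨v, hS' (mem_zpowers v), rfl⟩
    · rw [conj_eq_one_iff] at h
      rw [h, orderOf_one] at hv; omega
  obtain ⟨n, hnt⟩ : ∃ n : G, n * t * n⁻¹ = g * v * g⁻¹ ∨ n * t * n⁻¹ = (g * v * g⁻¹)⁻¹ := by
    rcases Finset.mem_union.1 hgv with h | h
    · obtain ⟨m, hm⟩ := (Finset.mem_filter.1 h).2
      exact ⟨m, Or.inl hm⟩
    · obtain ⟨z, hz, hzy⟩ := Finset.mem_image.1 h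
      obtain ⟨m, hm⟩ := (Finset.mem_filter.1 hz).2
      exact ⟨m, Or.inr (by rw [← hzy, inv_inv]; exact hm)⟩
  obtain ⟨y, hyR, hy⟩ := exists_order (r := 5) (H := (R : Subgroup G)) hR.symm.dvd
  have hyv : Commute y v := hvC y hyR
  have hmem5 : (n⁻¹ * g) * y * (n⁻¹ * g)⁻¹ ∈ CT := by
    have hconj : Commute (g * y * g⁻¹) (n * t * n⁻¹) := by
      have h := hyv.map (MulAut.conj g).toMonoidHom
      rcases hnt with h' | h' <;> rw [h']
      · exact h
      · exact h.inv_right
    have h := hconj.map (MulAut.conj n⁻¹).toMonoidHom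
    rw [hCTdef, mem_centralizer_singleton_iff]
    simp only [MulEquiv.coe_toMonoidHom, MulAut.conj_apply, inv_inv] at h
    have e1 : n⁻¹ * (n * t * n⁻¹) * n = t := by group
    have e2 : n⁻¹ * (g * y * g⁻¹) * n = (n⁻¹ * g) * y * (n⁻¹ * g)⁻¹ := by group
    rw [e1, e2] at h
    exact h.eq
  have := orderOf_dvd_natCard CT hmem5
  rw [← MulAut.conj_apply, MulEquiv.orderOf_eq, hy, hCTcard] at this
  norm_num at this

end Cfsg.Agent.SmallSimple.Below6233
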