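import Cfsg.Agent.Lib.SmallSimple.Below6233.CasesA

/-!
# The orders 4800, 5400, 5880

Counting of pairs of Sylow subgroups by their intersection.
-/

set_option autoImplicit false
set_option linter.style.haveILetI false
set_option linter.unusedSectionVars false

namespace Cfsg.Agent.SmallSimple.Below6233

open Subgroup MulAction

universe u

variable {G : Type u} [Group G] [Finite G] [IsSimpleGroup G]

/-- An element of an abelian Sylow subgroup central in its normaliser is trivial. -/
theorem eq_one_of_normalizer_central (hG : ¬ IsMulCommutative G) {p : ℕ} [Fact p.Prime] (P : Sylow p G)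
    (hab : IsMulCommutative (P : Subgroup G)) {z : G} (hzP : z ∈ (P : Subgroup G))
    (hc : ∀ n ∈ normalizer ((P : Subgroup G) : Set G), n * z = z * n) : z = 1 := by
  by_contra hz
  have hmem : z ∈ (P : Subgroup G) ⊓ centralizer (normalizer ((P : Subgroup G) : Set G) : Set G) ⊓
      _root_.commutator G := by
    refine ⟨⟨hzP, mem_centralizer_iff.2 hc⟩, ?_⟩
    rcases (inferInstance : (_root_.commutator G).Normal).eq_bot_or_eq_top with h | h
    · exfalso
      apply hG
      refine isMulCommutative_iff.2 fun a b => commutatorElement_eq_one_iff_mul_comm.1 ?_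
      have := commutator_mem_commutator (mem_top a) (mem_top b)
      rwa [← commutator_def, h, mem_bot] at this
    · rw [h]; exact mem_top z
  exact hz (mem_bot.1 ((Transfer.inf_centralizer_normalizer_inf_commutator_eq_bot P hab).le hmem))

/-- Two Sylow subgroups of order `p²` meeting non-trivially: the intersection `D`, and the Sylow
subgroups of `N(D)`, any two of which meet exactly in `D`. -/
theorem pair_data (hG : ¬ IsMulCommutative G) {p n m : ℕ} [hp : Fact p.Prime] (hn : Nat.card G = n)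
    (hnm : n = p ^ 2 * m) (hm : ¬ p ∣ m) {A B : Sylow p G} (hne : A ≠ B)
    (hAB : (A : Subgroup G) ⊓ (B : Subgroup G) ≠ ⊥) :
    ∃ D H : Subgroup G, (A : Subgroup G) ⊓ (B : Subgroup G) = D ∧ normalizer (D : Set G) = H ∧
      Nat.card D = p ∧ (A : Subgroup G) ≤ H ∧ (B : Subgroup G) ≤ H ∧
      (A : Subgroup G) ≤ centralizer (D : Set G) ∧ (B : Subgroup G) ≤ centralizer (D : Set G) ∧
      ∃ t, t ∈ twoSylow p n m ∧ Nat.card H = p ^ 2 * t ∧ H.index * t = m ∧
        Nat.card (Sylow p H) ∣ t ∧ 1 < Nat.card (Sylow p H) ∧ Nat.card (Sylow p H) % p = 1 ∧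
        H.index * (Nat.card (Sylow p H) * Nat.card (Sylow p H) - Nat.card (Sylow p H)) ≤
          Nat.card (Sylow p G) * Nat.card (Sylow p G) - Nat.card (Sylow p G) := by
  classical
  have hsyl : ∀ Q : Sylow p G, Nat.card (Q : Subgroup G) = p ^ 2 := fun Q =>
    card_sylow_subgroup (hn.trans hnm) hm Q
  have hab : ∀ Q : Sylow p G, IsMulCommutative (Q : Subgroup G) := fun Q =>
    IsPGroup.isMulCommutative_of_card_eq_prime_sq (hsyl Q)
  have hcard : ∀ Q R : Sylow p G, Q ≠ R → (Q : Subgroup G) ⊓ (R : Subgroup G) ≠ ⊥ →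
      Nat.card ((Q : Subgroup G) ⊓ (R : Subgroup G) : Subgroup G) = p := by
    intro Q R hQR hbot
    obtain ⟨j, hj2, hj⟩ := (Nat.dvd_prime_pow hp.out).1
      (hsyl Q ▸ Subgroup.card_dvd_of_le (inf_le_left : (Q : Subgroup G) ⊓ (R : Subgroup G) ≤ _))
    interval_cases j
    · exact absurd (eq_bot_of_card_eq _ (by rw [hj, pow_zero])) hbot
    · rw [hj, pow_one]
    · exfalso
      have h := eq_of_le_of_card_ge (inf_le_left : (Q : Subgroup G) ⊓ (R : Subgroup G) ≤ _)
        (by rw [hj, hsyl Q])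
      exact hQR (Sylow.ext (eq_of_le_of_card_ge (inf_eq_left.1 h) (by rw [hsyl Q, hsyl R])))
  obtain ⟨D, hD⟩ : ∃ D, (A : Subgroup G) ⊓ (B : Subgroup G) = D := ⟨_, rfl⟩
  have hDp : Nat.card D = p := hD ▸ hcard A B hne hAB
  have hcen : ∀ Q : Sylow p G, D ≤ (Q : Subgroup G) →
      (Q : Subgroup G) ≤ centralizer (D : Set G) := fun Q hQ a ha => by
    rw [mem_centralizer_iff]
    intro b hb
    haveI := hab Q
    exact congrArg Subtype.val (mul_comm' (⟨b, hQ hb⟩ : (Q : Subgroup G)) ⟨a, ha⟩)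
  have hAle := hcen A (hD ▸ inf_le_left)
  have hBle := hcen B (hD ▸ inf_le_right)
  have hAN := hAle.trans (centralizer_le_normalizer D)
  have hBN := hBle.trans (centralizer_le_normalizer D)
  have htop : normalizer (D : Set G) ≠ ⊤ := by
    haveI : IsCyclic D := isCyclic_of_prime_card hDp
    haveI : IsMulCommutative D := IsCyclic.isMulCommutative
    refine normalizer_ne_top hG ?_ (Group.isSolvable_of_comm fun a b => mul_comm' a b)
    intro h
    rw [h, card_bot] at hDp
    exact hp.out.one_lt.ne hDp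
  obtain ⟨t, ht, hcardH, hidx, hdvd, h1, hmod⟩ := two_sylow_data hG hn hnm hm hne hAN hBN htop
  refine ⟨D, _, hD, rfl, hDp, hAN, hBN, hAle, hBle, t, ht, hcardH, hidx, hdvd, h1, hmod, ?_⟩
  set H := normalizer (D : Set G) with hH
  haveI := Fintype.ofFinite (Sylow p G)
  set F : Finset (Sylow p G) := Finset.univ.filter fun Q => (Q : Subgroup G) ≤ H with hF
  have hFcard : F.card = Nat.card (Sylow p H) := by
    rw [hF, ← Fintype.card_subtype, ← Nat.card_eq_fintype_card]
    refine Nat.card_congr (Equiv.ofBijective (fun Q => Q.1.subtype Q.2) ⟨?_, ?_⟩)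
    · exact fun Q R h => Subtype.ext (Sylow.subtype_injective h)
    · intro S
      obtain ⟨Q, hQ⟩ := S.exists_comap_subtype_eq
      obtain ⟨h', hh'⟩ := MulAction.exists_smul_eq H (A.subtype hAN) S
      have hle : ((h' : G) • A : Sylow p G) ≤ (H : Subgroup G) := by
        intro y hy
        rw [Sylow.coe_subgroup_smul] at hy
        obtain ⟨a, ha, rfl⟩ := Subgroup.mem_map.1 hy
        exact mul_mem (mul_mem h'.2 (hAN ha)) (inv_mem h'.2)
      refine ⟨⟨(h' : G) • A, hle⟩, ?_⟩
      rw [← hh', Sylow.smul_subtype]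
      rfl
  have hDsub : ∀ Q ∈ F, D ≤ (Q : Subgroup G) := fun Q hQ => by
    have hQH : (Q : Subgroup G) ≤ H := (Finset.mem_filter.1 hQ).2
    haveI : (D.subgroupOf H).Normal :=
      (normal_subgroupOf_iff_le_normalizer le_normalizer).2 le_rfl
    have hDg : IsPGroup p (D.subgroupOf H) :=
      (IsPGroup.of_card (p := p) (n := 1) (by rw [hDp, pow_one]) : IsPGroup p D).comap_of_injective
        H.subtype Subtype.val_injective
    have h := hDg.le_sylow_of_normal (Q.subtype hQH)
    intro a ha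
    exact mem_subgroupOf.1 (h (mem_subgroupOf.2 ha : (⟨a, le_normalizer ha⟩ : H) ∈ D.subgroupOf H))
  have hexact : ∀ Q ∈ F, ∀ R ∈ F, Q ≠ R → (Q : Subgroup G) ⊓ (R : Subgroup G) = D := by
    intro Q hQ R hR hQR
    have hle : D ≤ (Q : Subgroup G) ⊓ (R : Subgroup G) := le_inf (hDsub Q hQ) (hDsub R hR)
    refine (eq_of_le_of_card_ge hle ?_).symm
    rw [hDp, hcard Q R hQR]
    intro h
    rw [h, le_bot_iff] at hle
    rw [hle, card_bot] at hDp
    exact hp.out.one_lt.ne hDp
  have h := pair_count D F hexact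
  rwa [hFcard] at h

theorem card_ne_5880 (hG : ¬ IsMulCommutative G) : Nat.card G ≠ 5880 := by
  intro hn
  haveI : Fact (Nat.Prime 7) := ⟨by norm_num⟩
  obtain ⟨P⟩ := (inferInstance : Nonempty (Sylow 7 G))
  obtain ⟨hc, hmul, hP⟩ := mem_cands hG (p := 7) (e := 2) (m := 120) hn (by norm_num) (by norm_num)
    (by norm_num) P
  rw [show cands 7 5880 120 = [15, 120] by decide +kernel] at hc
  simp only [List.mem_cons, List.not_mem_nil, or_false] at hc
  rcases hc with h | h
  · obtain ⟨A, B, hne, hcard, -, -, -⟩ := exists_index_prime hG (p := 7) (e := 2) (m := 120) hn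
      (by norm_num) le_rfl (by norm_num) (by rw [h]; norm_num)
    obtain ⟨D, H, -, -, -, -, -, -, -, t, ht, -, hidx, hdvd, h1, hmod, hpair⟩ :=
      pair_data hG (n := 5880) (m := 120) hn (by norm_num) (by norm_num) hne
        (fun hb => by rw [hb, card_bot] at hcard; norm_num at hcard)
    rw [show twoSylow 7 5880 120 = [8] by decide +kernel, List.mem_singleton] at ht
    subst ht
    have h8 : Nat.card (Sylow 7 H) = 8 := by
      have := Nat.le_of_dvd (by norm_num) hdvd
      omega
    rw [h8, h] at hpair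
    omega
  · rw [h] at hmul
    refine false_of_self_normalizing hG P (IsPGroup.isMulCommutative_of_card_eq_prime_sq hP)
      (hn ▸ by norm_num) (eq_of_le_of_card_ge le_normalizer ?_).ge
    rw [hP]
    omega

omit [IsSimpleGroup G] in
/-- A subgroup of `N(A)` of order `p²` is `A`. -/
theorem eq_of_le_normalizer {p : ℕ} [Fact p.Prime] (A : Sylow p G)
    (hA : Nat.card (A : Subgroup G) = p ^ 2) {K : Subgroup G} (hK : Nat.card K = p ^ 2)
    (hle : K ≤ normalizer ((A : Subgroup G) : Set G)) : K = (A : Subgroup G) := by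
  obtain ⟨Q, hQ⟩ := (IsPGroup.of_card (p := p) (n := 2) hK).exists_le_sylow
  have hQA : Nat.card (Q : Subgroup G) = p ^ 2 := (Nat.card_congr (Q.equiv A).toEquiv).trans hA
  have hKQ : K = (Q : Subgroup G) := eq_of_le_of_card_ge hQ (by rw [hQA, hK])
  refine eq_of_le_of_card_ge (fun x hx => ?_) (by rw [hA, hK])
  exact ((Q.isPGroup'.inf_normalizer_sylow A).le ⟨hKQ ▸ hx, hle hx⟩).2

theorem card_ne_5400 (hG : ¬ IsMulCommutative G) : Nat.card G ≠ 5400 := by
  classical
  intro hn
  haveI : Fact (Nat.Prime 5) := ⟨by norm_num⟩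
  obtain ⟨A⟩ := (inferInstance : Nonempty (Sylow 5 G))
  obtain ⟨hc, hmul, hA⟩ := mem_cands hG (p := 5) (e := 2) (m := 216) hn (by norm_num) (by norm_num)
    (by norm_num) A
  rw [show cands 5 5400 216 = [36, 216] by decide +kernel] at hc
  simp only [List.mem_cons, List.not_mem_nil, or_false] at hc
  rcases hc with h | h
  swap
  · rw [h] at hmul
    refine false_of_self_normalizing hG A (IsPGroup.isMulCommutative_of_card_eq_prime_sq hA)
      (hn ▸ by norm_num) (eq_of_le_of_card_ge le_normalizer ?_).ge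
    rw [hA]
    omega
  set NA := normalizer ((A : Subgroup G) : Set G) with hNA
  have h150 : Nat.card NA = 150 := by rw [h] at hmul; omega
  -- the stabiliser data of a pair with non-trivial intersection
  have hpair : ∀ Q : Sylow 5 G, Q ≠ A → (A : Subgroup G) ⊓ (Q : Subgroup G) ≠ ⊥ →
      Nat.card ↥(NA ⊓ normalizer ((Q : Subgroup G) : Set G)) ∣ 10 := by
    intro Q hQA hbot
    obtain ⟨D, H, hD, hH, -, hAH, -, -, -, t, ht, hcardH, -, hdvd, h1, hmod, -⟩ :=
      pair_data hG (n := 5400) (m := 216) hn (by norm_num) (by norm_num) (Ne.symm hQA) hbot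
    rw [show twoSylow 5 5400 216 = [6, 12, 18] by decide +kernel] at ht
    simp only [List.mem_cons, List.not_mem_nil, or_false] at ht
    have h6 : Nat.card (Sylow 5 H) = 6 := by
      have hle := Nat.le_of_dvd (by rcases ht with rfl | rfl | rfl <;> norm_num) hdvd
      obtain ⟨q, hq⟩ := hdvd
      generalize Nat.card (Sylow 5 H) = k at h1 hmod hle hq
      rcases ht with rfl | rfl | rfl <;> interval_cases k <;> omega
    have h4 := four_dvd_of_even_count (H := H) (p := 5) (by norm_num) (by rw [h6]; norm_num)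
    have ht12 : t = 12 := by
      rw [hcardH] at h4
      rcases ht with rfl | rfl | rfl <;> first | rfl | omega
    obtain ⟨a, hsyl, -, hcount⟩ := exists_count A hAH
    rw [h6] at hsyl
    rw [← hsyl, hcardH, ht12] at hcount
    -- the stabiliser normalises `D`
    have hle : NA ⊓ normalizer ((Q : Subgroup G) : Set G) ≤ NA ⊓ H := by
      refine le_inf inf_le_left fun g hg => ?_
      rw [← hH, mem_normalizer_iff, ← hD]
      intro y
      simp only [mem_inf]
      rw [(mem_normalizer_iff.1 hg.1 y), (mem_normalizer_iff.1 hg.2 y)]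
    have hd50 : Nat.card ↥(NA ⊓ normalizer ((Q : Subgroup G) : Set G)) ∣ 50 := by
      have := Subgroup.card_dvd_of_le hle
      rwa [show Nat.card ↥(NA ⊓ H) = 50 by rw [← hNA] at hcount; omega] at this
    have h25 : ¬ 25 ∣ Nat.card ↥(NA ⊓ normalizer ((Q : Subgroup G) : Set G)) := by
      intro hd
      obtain ⟨K, hK⟩ := Sylow.exists_subgroup_card_pow_prime 5 (n := 2) (show 5 ^ 2 ∣ _ from hd)
      have hK' : Nat.card (K.map (NA ⊓ normalizer ((Q : Subgroup G) : Set G)).subtype) = 5 ^ 2 := by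
        rw [card_map_of_injective (Subgroup.subtype_injective _), hK]
      have hQc : Nat.card (Q : Subgroup G) = 5 ^ 2 := (Nat.card_congr (Q.equiv A).toEquiv).trans hA
      have e1 := eq_of_le_normalizer A hA hK' ((map_subtype_le K).trans inf_le_left)
      have e2 := eq_of_le_normalizer Q hQc hK' ((map_subtype_le K).trans inf_le_right)
      exact hQA (Sylow.ext (e2.symm.trans e1))
    generalize Nat.card ↥(NA ⊓ normalizer ((Q : Subgroup G) : Set G)) = y at hd50 h25
    have key : ∀ y ≤ 50, y ∣ 50 → ¬ 25 ∣ y → y ∣ 10 := by decide +kernel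
    exact key y (Nat.le_of_dvd (by norm_num) hd50) hd50 h25
  -- orbits on the two kinds of Sylow subgroups
  have hinv : ∀ g ∈ NA, ∀ Q : Sylow 5 G, ((A : Subgroup G) ⊓ (Q : Subgroup G) = ⊥ ↔
      (A : Subgroup G) ⊓ ((g • Q : Sylow 5 G) : Subgroup G) = ⊥) := by
    intro g hg Q
    have hmap : (A : Subgroup G) ⊓ ((g • Q : Sylow 5 G) : Subgroup G) =
        ((A : Subgroup G) ⊓ (Q : Subgroup G)).map (MulAut.conj g).toMonoidHom := by
      rw [map_inf _ _ _ (MulAut.conj g).injective]
      congr 1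
      · conv_lhs => rw [← smul_sylow_eq_iff.2 hg, Sylow.coe_subgroup_smul]
        rfl
    rw [hmap, map_eq_bot_iff_of_injective _ (MulAut.conj g).injective]
  have hA' : ∀ g ∈ NA, ∀ Q : Sylow 5 G, Q ≠ A → g • Q ≠ A := fun g hg Q hQ h => hQ (by
    rw [eq_inv_smul_iff.2 h]
    exact smul_sylow_eq_iff.2 (inv_mem hg))
  letI actX : MulAction NA {Q : Sylow 5 G // Q ≠ A ∧ (A : Subgroup G) ⊓ (Q : Subgroup G) ≠ ⊥} :=
    { smul := fun g Q => ⟨(g : G) • Q.1, hA' g g.2 Q.1 Q.2.1, fun h => Q.2.2 ((hinv g g.2 Q.1).2 h)⟩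
      mul_smul := fun a b Q => Subtype.ext (mul_smul (a : G) (b : G) Q.1)
      one_smul := fun Q => Subtype.ext (one_smul G Q.1) }
  letI actZ : MulAction (A : Subgroup G)
      {Q : Sylow 5 G // Q ≠ A ∧ (A : Subgroup G) ⊓ (Q : Subgroup G) = ⊥} :=
    { smul := fun g Q => ⟨(g : G) • Q.1, hA' g (le_normalizer g.2) Q.1 Q.2.1,
        (hinv g (le_normalizer g.2) Q.1).1 Q.2.2⟩
      mul_smul := fun a b Q => Subtype.ext (mul_smul (a : G) (b : G) Q.1)
      one_smul := fun Q => Subtype.ext (one_smul G Q.1) }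
  have hX : 15 ∣ Nat.card {Q : Sylow 5 G // Q ≠ A ∧ (A : Subgroup G) ⊓ (Q : Subgroup G) ≠ ⊥} := by
    refine dvd_card_of_dvd_card_orbit (G := NA) _ fun Q => ?_
    have hst : stabilizer NA Q = (normalizer ((Q.1 : Subgroup G) : Set G)).subgroupOf NA := by
      ext g
      rw [mem_stabilizer_iff, mem_subgroupOf, ← smul_sylow_eq_iff]
      exact ⟨fun h => congrArg Subtype.val h, fun h => Subtype.ext h⟩
    have h1 := card_orbit_mul_card_stabilizer (G := NA) Q
    rw [hst, ← inf_subgroupOf_left, Nat.card_congr (subgroupOfEquivOfLe inf_le_left).toEquiv, h150] at h1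
    obtain ⟨c, hc⟩ := hpair Q.1 Q.2.1 Q.2.2
    refine ⟨c, Nat.eq_of_mul_eq_mul_right (Nat.card_pos (α := ↥(NA ⊓ normalizer ((Q.1 : Subgroup G) : Set G)))) ?_⟩
    rw [h1, mul_assoc, mul_comm c, ← hc]
    norm_num
  have hZ : 25 ∣ Nat.card {Q : Sylow 5 G // Q ≠ A ∧ (A : Subgroup G) ⊓ (Q : Subgroup G) = ⊥} := by
    refine dvd_card_of_dvd_card_orbit (G := (A : Subgroup G)) _ fun Q => ?_
    have hst : stabilizer (A : Subgroup G) Q = ⊥ := by
      rw [eq_bot_iff]
      intro g hg
      have hgQ : (g : G) ∈ (Q.1 : Subgroup G) := mem_of_smul_sylow_eq g.2 (congrArg Subtype.val hg)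
      have : (g : G) ∈ (A : Subgroup G) ⊓ (Q.1 : Subgroup G) := ⟨g.2, hgQ⟩
      rw [Q.2.2, mem_bot] at this
      exact mem_bot.2 (Subtype.ext this)
    have h1 := card_orbit_mul_card_stabilizer (G := (A : Subgroup G)) Q
    rw [hst, card_bot, mul_one, hA] at h1
    rw [h1]
    norm_num
  haveI := Fintype.ofFinite (Sylow 5 G)
  have hsum : Nat.card {Q : Sylow 5 G // Q ≠ A ∧ (A : Subgroup G) ⊓ (Q : Subgroup G) = ⊥} +
      Nat.card {Q : Sylow 5 G // Q ≠ A ∧ (A : Subgroup G) ⊓ (Q : Subgroup G) ≠ ⊥} = 35 := by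
    simp only [Nat.card_eq_fintype_card, Fintype.card_subtype]
    rw [← Finset.filter_filter, ← Finset.filter_filter,
      Finset.card_filter_add_card_filter_not (s := Finset.univ.filter fun Q : Sylow 5 G => Q ≠ A),
      Finset.filter_ne', Finset.card_erase_of_mem (Finset.mem_univ A), Finset.card_univ,
      ← Nat.card_eq_fintype_card, h]
  omega

theorem card_ne_4800 (hG : ¬ IsMulCommutative G) : Nat.card G ≠ 4800 := by
  classical
  intro hn
  haveI : Fact (Nat.Prime 5) := ⟨by norm_num⟩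
  obtain ⟨P⟩ := (inferInstance : Nonempty (Sylow 5 G))
  obtain ⟨hc, -, -⟩ := mem_cands hG (p := 5) (e := 2) (m := 192) hn (by norm_num) (by norm_num)
    (by norm_num) P
  rw [show cands 5 4800 192 = [16, 96] by decide +kernel] at hc
  simp only [List.mem_cons, List.not_mem_nil, or_false] at hc
  obtain ⟨A, B, hne, hcard, -, -, -⟩ := exists_index_prime hG (p := 5) (e := 2) (m := 192) hn
    (by norm_num) le_rfl (by norm_num) (by rcases hc with h | h <;> rw [h] <;> norm_num)
  obtain ⟨D, H, hD, hH, hDp, hAH, hBH, hAC, hBC, t, ht, hcardH, hidx, hdvd, h1, hmod, hpair⟩ :=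
    pair_data hG (n := 4800) (m := 192) hn (by norm_num) (by norm_num) hne
      (fun hb => by rw [hb, card_bot] at hcard; norm_num at hcard)
  rw [show twoSylow 5 4800 192 = [6, 12, 16] by decide +kernel] at ht
  simp only [List.mem_cons, List.not_mem_nil, or_false] at ht
  have hn' : (t = 6 ∧ Nat.card (Sylow 5 H) = 6) ∨ (t = 12 ∧ Nat.card (Sylow 5 H) = 6) ∨
      (t = 16 ∧ Nat.card (Sylow 5 H) = 16) := by
    have hle := Nat.le_of_dvd (by rcases ht with rfl | rfl | rfl <;> norm_num) hdvd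
    obtain ⟨q, hq⟩ := hdvd
    generalize Nat.card (Sylow 5 H) = k at h1 hmod hle hq
    rcases ht with rfl | rfl | rfl <;> interval_cases k <;> omega
  rcases hc with hc | hc
  · rw [hc] at hpair
    rcases hn' with ⟨rfl, h'⟩ | ⟨rfl, h'⟩ | ⟨rfl, h'⟩ <;> rw [h'] at hpair <;> omega
  obtain ⟨-, hmul, hA⟩ := mem_cands hG (p := 5) (e := 2) (m := 192) hn (by norm_num) (by norm_num)
    (by norm_num) A
  rw [hc] at hmul
  set NA := normalizer ((A : Subgroup G) : Set G) with hNA
  have h50 : Nat.card NA = 50 := by omega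
  have hab := IsPGroup.isMulCommutative_of_card_eq_prime_sq hA
  have hidx2 : ((A : Subgroup G).subgroupOf NA).index = 2 := by
    have h := Subgroup.card_mul_index ((A : Subgroup G).subgroupOf NA)
    rw [Nat.card_congr (subgroupOfEquivOfLe le_normalizer).toEquiv, hA, h50] at h
    omega
  haveI : ((A : Subgroup G).subgroupOf NA).Normal := normal_of_index_eq_two hidx2
  have hcomm : ∀ a ∈ (A : Subgroup G), ∀ b ∈ (A : Subgroup G), a * b = b * a := fun a ha b hb => by
    haveI := hab
    exact congrArg Subtype.val (mul_comm' (⟨a, ha⟩ : (A : Subgroup G)) ⟨b, hb⟩)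
  -- elements outside `A` invert `A`
  have hinv : ∀ u ∈ NA, u ∉ (A : Subgroup G) → ∀ x ∈ (A : Subgroup G), u * x * u⁻¹ = x⁻¹ := by
    intro u hu huA x hx
    have hux : u * x * u⁻¹ ∈ (A : Subgroup G) := (mem_normalizer_iff.1 hu x).1 hx
    have hu2 : u ^ 2 ∈ (A : Subgroup G) := by
      have := Subgroup.pow_index_mem ((A : Subgroup G).subgroupOf NA) ⟨u, hu⟩
      rw [hidx2] at this
      simpa [mem_subgroupOf] using this
    have hfix : u * (x * (u * x * u⁻¹)) * u⁻¹ = x * (u * x * u⁻¹) := by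
      calc u * (x * (u * x * u⁻¹)) * u⁻¹ = (u * x * u⁻¹) * (u ^ 2 * x * (u ^ 2)⁻¹) := by
            rw [pow_two]; group
        _ = (u * x * u⁻¹) * x := by rw [hcomm _ hu2 x hx, mul_inv_cancel_right]
        _ = x * (u * x * u⁻¹) := hcomm _ hux x hx
    have hzA := mul_mem hx hux
    have hone : x * (u * x * u⁻¹) = 1 := by
      refine eq_one_of_normalizer_central hG A hab hzA fun n hn' => ?_
      by_cases hnA : n ∈ (A : Subgroup G)
      · exact hcomm n hnA _ hzA
      · have hnu : n * u⁻¹ ∈ (A : Subgroup G) := by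
          have hiff := Subgroup.mul_mem_iff_of_index_two hidx2 (a := (⟨n, hn'⟩ : NA)) (b := ⟨u⁻¹, inv_mem hu⟩)
          simp only [mem_subgroupOf, Subgroup.coe_mul] at hiff
          exact hiff.2 ⟨fun h => absurd h hnA, fun h => absurd ((inv_mem_iff).1 h) huA⟩
        calc n * (x * (u * x * u⁻¹)) = (n * u⁻¹) * (u * (x * (u * x * u⁻¹)) * u⁻¹) * u := by group
          _ = (n * u⁻¹) * (x * (u * x * u⁻¹)) * u := by rw [hfix]
          _ = (x * (u * x * u⁻¹)) * (n * u⁻¹) * u := by rw [hcomm _ hnu _ hzA]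
          _ = (x * (u * x * u⁻¹)) * n := by group
    exact eq_inv_of_mul_eq_one_right hone
  have hDA : D ≤ (A : Subgroup G) := hD ▸ inf_le_left
  have hNAH : NA ≤ H := fun u hu => by
    by_cases huA : u ∈ (A : Subgroup G)
    · exact hAH huA
    rw [← hH, mem_normalizer_iff]
    intro y
    constructor
    · intro hy
      rw [hinv u hu huA y (hDA hy)]
      exact inv_mem hy
    · intro hy
      have hyA : y ∈ (A : Subgroup G) := (mem_normalizer_iff.1 hu y).2 (hDA hy)
      rw [hinv u hu huA y hyA] at hy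
      exact inv_mem_iff.1 hy
  obtain ⟨a, hsyl, -, hcount⟩ := exists_count A hAH
  rw [← hNA, inf_eq_left.2 hNAH, h50, hcardH, ← hsyl] at hcount
  have h12 : t = 12 ∧ Nat.card (Sylow 5 H) = 6 := by
    rcases hn' with ⟨rfl, h'⟩ | ⟨rfl, h'⟩ | ⟨rfl, h'⟩ <;> omega
  -- the centraliser of `D`
  set CD := centralizer (D : Set G) with hCD
  have hCH : CD ≤ H := hH ▸ centralizer_le_normalizer D
  obtain ⟨a', hsyl', ha', hcount'⟩ := exists_count A hAC
  have h25 : Nat.card ↥(NA ⊓ CD) = 25 := by
    have hle : NA ⊓ CD ≤ (A : Subgroup G) := by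
      rintro u ⟨hu, huC⟩
      by_contra huA
      obtain ⟨w, hwD, hw⟩ := exists_order (r := 5) (H := D) hDp.symm.dvd
      have h := hinv u hu huA w (hDA hwD)
      rw [← huC w hwD, mul_inv_cancel_right] at h
      have h2 : w ^ 2 = 1 := by rw [pow_two]; exact eq_inv_iff_mul_eq_one.1 h
      have := orderOf_dvd_of_pow_eq_one h2
      rw [hw] at this
      norm_num at this
    rw [le_antisymm hle (le_inf le_normalizer hAC), hA]
    norm_num
  rw [← hNA, h25] at hcount'
  have hCdvd : Nat.card CD ∣ 300 := by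
    have := Subgroup.card_dvd_of_le hCH
    rwa [hcardH, h12.1] at this
  have hlt : 1 < a' := hsyl' ▸ Finite.one_lt_card_iff_nontrivial.2
    ⟨⟨A.subtype hAC, B.subtype hBC, fun h => hne (Sylow.subtype_injective h)⟩⟩
  have key : ∀ a ≤ 12, a * 25 ∣ 300 → a % 5 = 1 → 1 < a → a = 6 := by decide +kernel
  rw [← hcount'] at hCdvd
  have ha6 : a' = 6 := key a' (by have := Nat.le_of_dvd (by norm_num) hCdvd; omega) hCdvd ha' hlt
  have h4 := four_dvd_of_even_count (H := CD) (p := 5) (by norm_num) (by rw [hsyl', ha6]; norm_num)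
  rw [← hcount', ha6] at h4
  norm_num at h4

end Cfsg.Agent.SmallSimple.Below6233
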