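import Cfsg.Agent.Lib.SmallSimple.Below6233.Criteria
import Cfsg.Agent.Lib.SmallSimple.PRQPow
import Cfsg.Agent.Lib.SmallCofactor.Klein
import Cfsg.Agent.S0499

/-!
# The orders in `(3640, 6232]` left by the standard criteria
-/

set_option autoImplicit false
set_option linter.style.haveILetI false
set_option linter.unusedSectionVars false

namespace Cfsg.Agent.SmallSimple.Below6233

universe u

/-- The primes below 80. -/
def lowPrimes : List ℕ :=
  [2, 3, 5, 7, 11, 13, 17, 19, 23, 29, 31, 37, 41, 43, 47, 53, 59, 61, 67, 71, 73, 79]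

theorem prime_of_mem {q : ℕ} (h : q ∈ lowPrimes) : q.Prime := by
  simp only [lowPrimes, List.mem_cons, List.not_mem_nil, or_false] at h
  rcases h with rfl | rfl | rfl | rfl | rfl | rfl | rfl | rfl | rfl | rfl | rfl | rfl | rfl | rfl | rfl |
    rfl | rfl | rfl | rfl | rfl | rfl | rfl <;> norm_num

/-- A bounded primality test. -/
def isP (x : ℕ) : Bool :=
  decide (2 ≤ x) && decide (x < 6889) && lowPrimes.all fun p => decide (p = x) || decide (x % p ≠ 0)

theorem mem_or_lt {p : ℕ} (hp : p.Prime) : p ∈ lowPrimes ∨ 83 ≤ p := by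
  by_contra h
  push Not at h
  obtain ⟨h1, h2⟩ := h
  interval_cases p <;> first | exact h1 (by decide) | exact absurd hp (by norm_num)

theorem prime_of_isP {x : ℕ} (h : isP x = true) : x.Prime := by
  simp only [isP, Bool.and_eq_true, decide_eq_true_eq, List.all_eq_true, Bool.or_eq_true] at h
  obtain ⟨⟨h2, hlt⟩, hall⟩ := h
  by_contra hnp
  have hsq := Nat.minFac_sq_le_self (by omega) hnp
  have hp := Nat.minFac_prime (n := x) (by omega)
  have hd := Nat.minFac_dvd x
  rcases mem_or_lt hp with hm | hm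
  · rcases hall _ hm with h | h
    · exact hnp (h ▸ hp)
    · exact h (Nat.mod_eq_zero_of_dvd hd)
  · nlinarith

/-- Divide out `p`, at most thirteen times. -/
def strip (p : ℕ) : ℕ → ℕ → ℕ × ℕ
  | 0, n => (0, n)
  | k + 1, n => if n % p = 0 then ((strip p k (n / p)).1 + 1, (strip p k (n / p)).2) else (0, n)

theorem strip_spec (p k : ℕ) : ∀ n, n = p ^ (strip p k n).1 * (strip p k n).2 := by
  induction k with
  | zero => intro n; simp [strip]
  | succ k ih =>
    intro n
    by_cases h : n % p = 0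
    · simp only [strip, h, if_true]
      rw [pow_succ, mul_right_comm, ← ih (n / p)]
      exact (Nat.div_mul_cancel (Nat.dvd_of_mod_eq_zero h)).symm
    · simp [strip, h]

/-- At most two primes, one of them small. -/
def twoP (n : ℕ) : Bool :=
  lowPrimes.any fun q => decide (n % q = 0) &&
    (decide ((strip q 13 n).2 = 1) || isP (strip q 13 n).2 ||
      lowPrimes.any fun r => decide ((strip r 13 (strip q 13 n).2).2 = 1))

/-- Even, and none of `12`, `16`, `56` divides. -/
def evenB (n : ℕ) : Bool := decide (n % 2 = 0 ∧ n % 12 ≠ 0 ∧ n % 16 ≠ 0 ∧ n % 56 ≠ 0)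

/-- The smallest prime has exponent one. -/
def minOne (n : ℕ) : Bool :=
  lowPrimes.any fun q => decide (n % q = 0 ∧ 1 < n / q ∧ n / q % q ≠ 0) &&
    lowPrimes.all fun s => decide (q ≤ s ∨ n % s ≠ 0)

/-- Order `p r q ^ b`. -/
def prq (n : ℕ) : Bool :=
  lowPrimes.any fun q => lowPrimes.any fun r =>
    decide (n % q = 0 ∧ (strip q 13 n).2 % r = 0 ∧ r ≠ q ∧ r < (strip q 13 n).2 / r ∧
      (strip q 13 n).2 / r ≠ q) && isP ((strip q 13 n).2 / r)

/-- Order `4 p ^ a q ^ b`. -/
def four (n : ℕ) : Bool :=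
  lowPrimes.any fun p => decide (n % 4 = 0 ∧ p ≠ 2 ∧ n / 4 % p = 0) &&
    ((decide ((strip p 13 (n / 4)).2 ≠ 2 ∧ (strip p 13 (n / 4)).2 ≠ p) && isP (strip p 13 (n / 4)).2) ||
      lowPrimes.any fun q => decide (q ≠ 2 ∧ q ≠ p ∧ (strip q 13 (strip p 13 (n / 4)).2).2 = 1))

/-- Orders dying at a prime of exponent one: `(n, p, m)` with `n = p m`. -/
def certOne : List (ℕ × ℕ × ℕ) :=
  [ (3660, 61, 60), (3672, 17, 216), (3720, 31, 120), (3816, 53, 72), (3825, 17, 225), (3828, 29, 132), (3864, 23, 168),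
    (3876, 19, 204), (3900, 13, 300), (3948, 47, 84), (4020, 67, 60), (4092, 31, 132), (4095, 7, 585), (4104, 19, 216),
    (4140, 23, 180), (4176, 29, 144), (4248, 59, 72), (4260, 71, 60), (4275, 19, 225), (4284, 17, 252), (4312, 11, 392),
    (4368, 13, 336), (4380, 73, 60), (4392, 61, 72), (4440, 37, 120), (4452, 53, 84), (4464, 31, 144), (4488, 17, 264),
    (4524, 29, 156), (4560, 19, 240), (4692, 23, 204), (4740, 79, 60), (4752, 11, 432), (4788, 19, 252), (4824, 67, 72),
    (4836, 31, 156), (4851, 11, 441), (4872, 29, 168), (4884, 37, 132), (4920, 41, 120), (4956, 59, 84), (4968, 23, 216),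
    (4980, 83, 60), (5016, 19, 264), (5100, 17, 300), (5112, 71, 72), (5124, 61, 84), (5160, 43, 120), (5175, 23, 225),
    (5200, 13, 400), (5208, 31, 168), (5220, 29, 180), (5244, 23, 228), (5256, 73, 72), (5280, 11, 480), (5304, 13, 408),
    (5320, 19, 280), (5328, 37, 144), (5340, 89, 60), (5355, 17, 315), (5412, 41, 132), (5520, 23, 240), (5544, 11, 504),
    (5580, 31, 180), (5628, 67, 84), (5640, 47, 120), (5676, 11, 516), (5688, 79, 72), (5700, 19, 300), (5712, 17, 336),
    (5733, 13, 441), (5772, 37, 156), (5796, 23, 252), (5820, 97, 60), (5904, 41, 144), (5916, 29, 204), (5928, 19, 312),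
    (5964, 71, 84), (5976, 83, 72), (5985, 19, 315), (6060, 101, 60), (6120, 17, 360), (6132, 73, 84), (6160, 7, 880),
    (6180, 103, 60), (6192, 43, 144), (6204, 47, 132), (6216, 37, 168)]

/-- Orders dying at a prime of exponent at least two: `(n, p, e, m)` with `n = p ^ e m`. -/
def certBig : List (ℕ × ℕ × ℕ × ℕ) :=
  [ (3920, 7, 2, 80), (4056, 13, 2, 24), (4704, 7, 2, 96), (4725, 5, 2, 189), (5096, 7, 2, 104), (5445, 11, 2, 45), (5808, 11, 2, 48),
    (6000, 5, 3, 48)]

/-- The orders not settled by the criteria above. -/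
def rest : List ℕ :=
  [3696, 3744, 3780, 3960, 4032, 4080, 4200, 4320, 4400, 4536, 4620, 4680, 4760, 4800, 4896, 5040, 5148, 5400, 5460, 5472, 5600, 5616, 5760, 5880, 5940, 6048, 6072]

theorem certOne_ok : ∀ q ∈ certOne, (decide (q.1 = q.2.1 * q.2.2 ∧ q.2.2 % q.2.1 ≠ 0 ∧ q.2.1 % 2 = 1) &&
    isP q.2.1 && decide (opts q.2.1 q.1 q.2.2 = [])) = true := by
  decide +kernel

theorem certBig_ok : ∀ q ∈ certBig, (decide (q.1 = q.2.1 ^ q.2.2.1 * q.2.2.2 ∧ q.2.2.2 % q.2.1 ≠ 0 ∧
    2 ≤ q.2.2.1) && isP q.2.1 && bigDead q.2.1 q.1 q.2.2.1 q.2.2.2) = true := by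
  decide +kernel

/-- One of the criteria applies. -/
def settled (n : ℕ) : Bool :=
  evenB n || minOne n || twoP n || isP n || four n || prq n || (certOne.any fun q => decide (q.1 = n)) ||
    (certBig.any fun q => decide (q.1 = n)) || decide (n ∈ rest)

theorem sweep : ∀ i ∈ List.range 2592, settled (3641 + i) = true := by
  decide +kernel

variable {G : Type u} [Group G] [Finite G] [IsSimpleGroup G]

theorem mem_rest (hG : ¬ IsMulCommutative G) (h1 : 3640 < Nat.card G) (h : Nat.card G ≤ 6232) :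
    Nat.card G ∈ rest := by
  have hns : ¬ (Nat.card G).Prime := fun hp => hG (by
    haveI := Fact.mk hp
    haveI : IsCyclic G := isCyclic_of_prime_card rfl
    exact IsCyclic.isMulCommutative)
  have htwo : ∀ {q r a b : ℕ}, q.Prime → r.Prime → Nat.card G ≠ q ^ a * r ^ b :=
    fun hq hr he => false_of_two_primes hq hr he hns
  have hs := sweep (Nat.card G - 3641) (List.mem_range.2 (by omega))
  rw [show 3641 + (Nat.card G - 3641) = Nat.card G by omega] at hs
  simp only [settled, Bool.or_eq_true, decide_eq_true_eq] at hs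
  rcases hs with (((((((hs | hs) | hs) | hs) | hs) | hs) | hs) | hs) | hs
  · exfalso
    simp only [evenB, decide_eq_true_eq] at hs
    rcases Cfsg.Agent.S0499.result hG (Nat.even_iff.2 hs.1) with h' | h' | h' <;>
      have := Nat.mod_eq_zero_of_dvd h' <;> omega
  · exfalso
    simp only [minOne, List.any_eq_true, Bool.and_eq_true, decide_eq_true_eq, List.all_eq_true] at hs
    obtain ⟨q, hq, ⟨hd, h1', hm⟩, hall⟩ := hs
    have hmul := (Nat.mul_div_cancel' (Nat.dvd_of_mod_eq_zero hd)).symm
    refine false_of_min_exponent_one (prime_of_mem hq) hmul h1' fun r hr hrd => ?_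
    have hne : r ≠ q := by
      rintro rfl
      exact hm (Nat.mod_eq_zero_of_dvd hrd)
    have hrG : r ∣ Nat.card G := hmul ▸ dvd_mul_of_dvd_right hrd q
    rcases mem_or_lt hr with hmem | hbig
    · rcases hall r hmem with h' | h'
      · omega
      · exact absurd (Nat.mod_eq_zero_of_dvd hrG) h'
    · simp only [lowPrimes, List.mem_cons, List.not_mem_nil, or_false] at hq
      omega
  · exfalso
    simp only [twoP, List.any_eq_true, Bool.and_eq_true, Bool.or_eq_true, decide_eq_true_eq] at hs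
    obtain ⟨q, hq, -, (hs | hs) | ⟨r, hr, hs⟩⟩ := hs
    · have hspec := strip_spec q 13 (Nat.card G)
      rw [hs] at hspec
      exact htwo (q := q) (a := (strip q 13 (Nat.card G)).1) (prime_of_mem hq) Nat.prime_two (b := 0)
        (by rw [pow_zero]; exact hspec)
    · exact htwo (q := q) (a := (strip q 13 (Nat.card G)).1) (prime_of_mem hq) (prime_of_isP hs) (b := 1)
        (by rw [pow_one]; exact strip_spec q 13 _)
    · have hspec := strip_spec q 13 (Nat.card G)
      have h2 := strip_spec r 13 (strip q 13 (Nat.card G)).2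
      rw [hs, mul_one] at h2
      rw [h2] at hspec
      exact htwo (prime_of_mem hq) (prime_of_mem hr) hspec
  · exact absurd (prime_of_isP hs) hns
  · exfalso
    haveI := Fintype.ofFinite G
    simp only [four, List.any_eq_true, Bool.and_eq_true, Bool.or_eq_true, decide_eq_true_eq] at hs
    obtain ⟨p, hp, ⟨h4, hp2, -⟩, h⟩ := hs
    have hspec := strip_spec p 13 (Nat.card G / 4)
    have hcard := Nat.mul_div_cancel' (Nat.dvd_of_mod_eq_zero h4)
    rcases h with ⟨⟨hq2, hqp⟩, hs⟩ | ⟨q, hq, hq2, hqp, hs⟩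
    · rw [hspec, ← mul_assoc, ← pow_one (strip p 13 (Nat.card G / 4)).2] at hcard
      have := SmallCofactor.card_eq_sixty_of_four hG (prime_of_mem hp) (prime_of_isP hs) hp2 hq2 hqp.symm
        hcard.symm
      omega
    · have h2 := strip_spec q 13 (strip p 13 (Nat.card G / 4)).2
      rw [hs, mul_one] at h2
      rw [h2] at hspec
      rw [hspec, ← mul_assoc] at hcard
      have := SmallCofactor.card_eq_sixty_of_four hG (prime_of_mem hp) (prime_of_mem hq) hp2 hq2 hqp.symm
        hcard.symm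
      omega
  · simp only [prq, List.any_eq_true, Bool.and_eq_true, decide_eq_true_eq] at hs
    obtain ⟨q, hq, r, hr, ⟨-, hd, hrq, hlt, hpq⟩, hp⟩ := hs
    have hspec := strip_spec q 13 (Nat.card G)
    set s := (strip q 13 (Nat.card G)).2
    have hcard : Nat.card G = s / r * r * q ^ (strip q 13 (Nat.card G)).1 := by
      rw [Nat.div_mul_cancel (Nat.dvd_of_mod_eq_zero hd), mul_comm]
      exact hspec
    have hnc : ¬ IsCyclic G := fun hc => hG IsCyclic.isMulCommutative
    rcases PRQPow.card_eq hnc (prime_of_isP hp) (prime_of_mem hr) (prime_of_mem hq) hlt hpq hrq hcard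
      with ⟨-, h'⟩ | ⟨-, h'⟩
    · omega
    · omega
  · exfalso
    simp only [List.any_eq_true, decide_eq_true_eq] at hs
    obtain ⟨⟨n, p, m⟩, hmem, hn⟩ := hs
    have hok := certOne_ok _ hmem
    simp only [Bool.and_eq_true, decide_eq_true_eq] at hok hn
    obtain ⟨⟨⟨hnm, hm, hodd⟩, hp⟩, ho⟩ := hok
    haveI := Fact.mk (prime_of_isP hp)
    exact false_of_opts hG (Nat.odd_iff.2 hodd) hn.symm hnm
      (fun h' => hm (Nat.mod_eq_zero_of_dvd h')) ho
  · exfalso
    simp only [List.any_eq_true, decide_eq_true_eq] at hs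
    obtain ⟨⟨n, p, e, m⟩, hmem, hn⟩ := hs
    have hok := certBig_ok _ hmem
    simp only [Bool.and_eq_true, decide_eq_true_eq] at hok hn
    obtain ⟨⟨⟨hnm, hm, he⟩, hp⟩, hb⟩ := hok
    haveI := Fact.mk (prime_of_isP hp)
    exact false_of_bigDead hG hn.symm hnm he (fun h' => hm (Nat.mod_eq_zero_of_dvd h')) hb
  · exact hs

end Cfsg.Agent.SmallSimple.Below6233
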