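import Cfsg.Agent.Lib.SmallSimple.Below6233.TwoPart
import Cfsg.Agent.Lib.SmallSimple.ExceptionalDegree
import Cfsg.Agent.Lib.SmallSimple.No3960

/-!
# The orders 3696, 3780, 3960, 4620, 4760, 4896, 5600, 5940
-/

set_option autoImplicit false
set_option linter.style.haveILetI false
set_option linter.unusedSectionVars false

namespace Cfsg.Agent.SmallSimple.Below6233

open Subgroup MulAction

universe u

variable {G : Type u} [Group G] [Finite G] [IsSimpleGroup G]

omit [IsSimpleGroup G] in
/-- An element of prime order in a subgroup. -/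
theorem exists_order {H : Subgroup G} {r : ℕ} [Fact r.Prime] (h : r ∣ Nat.card H) :
    ∃ t ∈ H, orderOf t = r := by
  obtain ⟨t, ht⟩ := exists_prime_orderOf_dvd_card' r h
  exact ⟨t, t.2, by rw [Subgroup.orderOf_coe, ht]⟩

omit [IsSimpleGroup G] in
/-- An element of prime order generates a Sylow subgroup of prime order containing it. -/
theorem exists_sylow_zpowers {r m : ℕ} [hr : Fact r.Prime] (hn : Nat.card G = r * m) (hm : ¬ r ∣ m)
    {t : G} (ht : orderOf t = r) : ∃ Q : Sylow r G, (Q : Subgroup G) = zpowers t := by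
  obtain ⟨Q, hQ⟩ := (IsPGroup.of_card (p := r) (n := 1) (G := zpowers t)
    (by rw [Nat.card_zpowers, ht, pow_one])).exists_le_sylow
  refine ⟨Q, (eq_of_le_of_card_ge hQ ?_).symm⟩
  rw [card_sylow_subgroup (k := 1) (by rw [pow_one, hn]) hm Q, Nat.card_zpowers, ht, pow_one]

theorem card_ne_3696 (hG : ¬ IsMulCommutative G) : Nat.card G ≠ 3696 := by
  intro hn
  haveI : Fact (Nat.Prime 11) := ⟨by norm_num⟩
  haveI : Fact (Nat.Prime 3) := ⟨by norm_num⟩
  obtain ⟨P⟩ := (inferInstance : Nonempty (Sylow 11 G))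
  obtain ⟨d, c, hmem, hd, hC, hN, hP⟩ :=
    exists_opt hG (p := 11) (m := 336) (by decide) hn (by norm_num) (by norm_num) P
  rw [show opts 11 3696 336 = [(56, 3)] by decide +kernel] at hmem
  simp only [List.mem_singleton, Prod.mk.injEq] at hmem
  obtain ⟨rfl, rfl⟩ := hmem
  obtain ⟨t, htC, ht⟩ := exists_order (r := 3) (H := centralizer ((P : Subgroup G) : Set G))
    (by rw [hC]; norm_num)
  obtain ⟨F, hF, h1, h2, h3, -⟩ := sylow_fixed_form hG P hP ht htC
  have hmul := fixed_mul P hP (e := 2) (by rw [hC]; omega) (ht ▸ pow_orderOf_eq_one t) htC (by norm_num)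
  rw [hd] at h2 h3
  have hdvd : F ∣ Nat.card G := hF ▸ (hmul ▸ dvd_mul_right _ _ :
    Nat.card {Q : Sylow 11 G // t • Q = Q} ∣ Nat.card (centralizer ({t} : Set G))).trans
      (card_subgroup_dvd_card _)
  rw [hn] at hdvd
  clear hF hmul
  interval_cases F <;> omega

theorem card_ne_3780 (hG : ¬ IsMulCommutative G) : Nat.card G ≠ 3780 := by
  intro hn
  haveI : Fact (Nat.Prime 7) := ⟨by norm_num⟩
  haveI : Fact (Nat.Prime 5) := ⟨by norm_num⟩
  obtain ⟨P⟩ := (inferInstance : Nonempty (Sylow 7 G))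
  obtain ⟨d, c, hmem, -, hC, -, hP⟩ :=
    exists_opt hG (p := 7) (m := 540) (by decide) hn (by norm_num) (by norm_num) P
  rw [show opts 7 3780 540 = [(36, 5)] by decide +kernel] at hmem
  simp only [List.mem_singleton, Prod.mk.injEq] at hmem
  obtain ⟨rfl, rfl⟩ := hmem
  obtain ⟨y, hyC, hy⟩ := exists_order (r := 5) (H := centralizer ((P : Subgroup G) : Set G))
    (by rw [hC]; norm_num)
  obtain ⟨Q, hQ⟩ := exists_sylow_zpowers (m := 756) hn (by norm_num) hy
  obtain ⟨d', c', hmem', -, hC', -, -⟩ :=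
    exists_opt hG (p := 5) (m := 756) (by decide) hn (by norm_num) (by norm_num) Q
  rw [show opts 5 3780 756 = [(126, 3)] by decide +kernel] at hmem'
  simp only [List.mem_singleton, Prod.mk.injEq] at hmem'
  obtain ⟨rfl, rfl⟩ := hmem'
  have hle : (P : Subgroup G) ≤ centralizer ((Q : Subgroup G) : Set G) := by
    intro a ha
    rw [hQ, mem_centralizer_iff]
    intro b hb
    obtain ⟨i, rfl⟩ := mem_zpowers_iff.1 hb
    exact ((show Commute a y from hyC a ha).zpow_right i).eq.symm
  have := Subgroup.card_dvd_of_le hle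
  rw [hP, hC'] at this
  norm_num at this

theorem card_ne_3960 (hG : ¬ IsMulCommutative G) : Nat.card G ≠ 3960 := by
  intro hn
  haveI : Fact (Nat.Prime 11) := ⟨by norm_num⟩
  obtain ⟨P⟩ := (inferInstance : Nonempty (Sylow 11 G))
  obtain ⟨d, c, hmem, hd, -, -, -⟩ :=
    exists_opt hG (p := 11) (m := 360) (by decide) hn (by norm_num) (by norm_num) P
  have h45 : d = 45 := by
    have h : ∀ q ∈ opts 11 3960 360, q.1 = 45 := by decide +kernel
    exact h _ hmem
  exact M11Order.false_of_simple (j := 3) (by rw [hn]; norm_num) (Or.inr rfl) (hd.trans h45)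

theorem card_ne_4620 (hG : ¬ IsMulCommutative G) : Nat.card G ≠ 4620 := by
  intro hn
  haveI : Fact (Nat.Prime 7) := ⟨by norm_num⟩
  obtain ⟨P⟩ := (inferInstance : Nonempty (Sylow 7 G))
  obtain ⟨d, c, hmem, -, -, hN, -⟩ :=
    exists_opt hG (p := 7) (m := 660) (by decide) hn (by norm_num) (by norm_num) P
  rw [show opts 7 4620 660 = [(330, 1)] by decide +kernel] at hmem
  simp only [List.mem_singleton, Prod.mk.injEq] at hmem
  obtain ⟨rfl, rfl⟩ := hmem
  exact false_of_square_check hG (m := 660) hn (by norm_num) (by norm_num) P (by omega)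
    (by decide +kernel)

theorem card_ne_4760 (hG : ¬ IsMulCommutative G) : Nat.card G ≠ 4760 := by
  intro hn
  haveI : Fact (Nat.Prime 17) := ⟨by norm_num⟩
  obtain ⟨P⟩ := (inferInstance : Nonempty (Sylow 17 G))
  obtain ⟨d, c, hmem, -, hC, hN, hP⟩ :=
    exists_opt hG (p := 17) (m := 280) (by decide) hn (by norm_num) (by norm_num) P
  rw [show opts 17 4760 280 = [(35, 1)] by decide +kernel] at hmem
  simp only [List.mem_singleton, Prod.mk.injEq] at hmem
  obtain ⟨rfl, rfl⟩ := hmem
  obtain ⟨g, -, hg, -⟩ := exists_full_element (a := 2) P hP hC (by norm_num) (by omega)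
  exact false_of_full_two hG (a := 3) (m := 595) (by rw [hn]; norm_num) (by norm_num) (by norm_num) hg

theorem card_ne_4896 (hG : ¬ IsMulCommutative G) : Nat.card G ≠ 4896 := by
  classical
  intro hn
  haveI : Fact (Nat.Prime 17) := ⟨by norm_num⟩
  obtain ⟨P⟩ := (inferInstance : Nonempty (Sylow 17 G))
  obtain ⟨d, c, hmem, hd, hC, hN, hP⟩ :=
    exists_opt hG (p := 17) (m := 288) (by decide) hn (by norm_num) (by norm_num) P
  rw [show opts 17 4896 288 = [(18, 1)] by decide +kernel] at hmem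
  simp only [List.mem_singleton, Prod.mk.injEq] at hmem
  obtain ⟨rfl, rfl⟩ := hmem
  obtain ⟨g, hgN, hg, -⟩ := exists_full_element (a := 3) P hP hC (by norm_num) (by omega)
  haveI := Fintype.ofFinite (Sylow 17 G)
  set π := toPermHom G (Sylow 17 G) with hπ
  have hne : ∃ g, π g ≠ 1 := by
    obtain ⟨Q, hQ⟩ : ∃ Q : Sylow 17 G, Q ≠ P := by
      haveI : Nontrivial (Sylow 17 G) := Finite.one_lt_card_iff_nontrivial.1 (by omega)
      exact exists_ne P
    obtain ⟨a, ha⟩ := exists_smul_eq G P Q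
    exact ⟨a, fun h => hQ (by rw [← ha]; exact congrArg (fun σ : Equiv.Perm (Sylow 17 G) => σ P) h)⟩
  have hord : orderOf (π g) = 16 := by
    rw [orderOf_injective π (injective_of_simple π hne), hg]; norm_num
  have hsign := Equiv.Perm.mem_alternatingGroup.1 (mem_alternating_of_simple hG π g)
  set M := (π g).cycleType with hM
  have hdvd : ∀ l ∈ M, l ∣ 16 := fun l hl => hord ▸ Equiv.Perm.dvd_of_mem_cycleType hl
  have h16 : 16 ∈ M := by
    by_contra hc
    have : orderOf (π g) ∣ 8 := by
      rw [← Equiv.Perm.lcm_cycleType, Multiset.lcm_dvd]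
      intro l hl
      have h := hdvd l hl
      have hle := Nat.le_of_dvd (by norm_num) h
      interval_cases l <;> first | omega | (exact absurd hl hc)
    rw [hord] at this
    norm_num at this
  obtain ⟨M', hM'⟩ := Multiset.exists_cons_of_mem h16
  have hsum : M.sum ≤ 17 := by
    rw [hM, Equiv.Perm.sum_cycleType]
    have h : (π g).support ⊆ Finset.univ.erase P := fun Q hQ => Finset.mem_erase.2
      ⟨fun h => Equiv.Perm.mem_support.1 hQ (h ▸ smul_sylow_eq_iff.2 hgN), Finset.mem_univ _⟩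
    refine (Finset.card_le_card h).trans ?_
    rw [Finset.card_erase_of_mem (Finset.mem_univ _), Finset.card_univ, ← Nat.card_eq_fintype_card, hd]
  have hM0 : M' = 0 := by
    by_contra hne'
    obtain ⟨l, hl⟩ := Multiset.exists_mem_of_ne_zero hne'
    have h2 : 2 ≤ l := Equiv.Perm.two_le_of_mem_cycleType (σ := π g)
      (by rw [← hM, hM']; exact Multiset.mem_cons_of_mem hl)
    have := Multiset.le_sum_of_mem hl
    rw [hM', Multiset.sum_cons] at hsum
    omega
  rw [Equiv.Perm.sign_of_cycleType, ← hM, hM', hM0] at hsign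
  simp only [Multiset.sum_cons, Multiset.sum_zero, Multiset.card_cons, Multiset.card_zero] at hsign
  exact absurd hsign (by decide)

theorem card_ne_5600 (hG : ¬ IsMulCommutative G) : Nat.card G ≠ 5600 := by
  intro hn
  haveI : Fact (Nat.Prime 7) := ⟨by norm_num⟩
  haveI : Fact (Nat.Prime 5) := ⟨by norm_num⟩
  haveI : Fact (Nat.Prime 2) := ⟨Nat.prime_two⟩
  obtain ⟨P⟩ := (inferInstance : Nonempty (Sylow 7 G))
  obtain ⟨d, c, hmem, -, hC, hN, hP⟩ :=
    exists_opt hG (p := 7) (m := 800) (by decide) hn (by norm_num) (by norm_num) P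
  rw [show opts 7 5600 800 = [(50, 8), (400, 1)] by decide +kernel] at hmem
  simp only [List.mem_cons, List.not_mem_nil, or_false, Prod.mk.injEq] at hmem
  rcases hmem with ⟨rfl, rfl⟩ | ⟨rfl, rfl⟩
  swap
  · exact false_of_square_check hG (m := 800) hn (by norm_num) (by norm_num) P (by omega)
      (by decide +kernel)
  obtain ⟨t, htC, ht⟩ := exists_order (r := 2) (H := centralizer ((P : Subgroup G) : Set G))
    (by rw [hC]; norm_num)
  obtain ⟨x, hxP, hx⟩ := exists_order (r := 7) (H := (P : Subgroup G)) hP.symm.dvd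
  -- a subgroup of index 14
  obtain ⟨S⟩ := (inferInstance : Nonempty (Sylow 5 G))
  obtain ⟨hc5, -, -⟩ := mem_cands hG (p := 5) (e := 2) (m := 224) hn (by norm_num) (by norm_num) (by norm_num) S
  have h25 : ∀ q ∈ cands 5 5600 224, q % (5 * 5) ≠ 1 := by decide +kernel
  obtain ⟨A, B, hne, -, hA, hB, htop⟩ := exists_index_prime hG (p := 5) (e := 2) (m := 224) hn
    (by norm_num) le_rfl (by norm_num) (h25 _ hc5)
  obtain ⟨u, hu, hcard, hidx, -⟩ := two_sylow_data hG hn (by norm_num) (e := 2) (m := 224) (by norm_num)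
    hne hA hB htop
  rw [show twoSylow 5 5600 224 = [16] by decide +kernel, List.mem_singleton] at hu
  subst hu
  obtain ⟨s, b, f, h1, h2, h3, h4, h5, h6, h7, h8, h9, h10⟩ :=
    exists_fixed_counts hG htop hx ht (htC x hxP)
  have hs : s = 0 := h10 (by rw [hcard]; norm_num)
  have h9' := h9 rfl
  omega

theorem card_ne_5940 (hG : ¬ IsMulCommutative G) : Nat.card G ≠ 5940 := by
  intro hn
  haveI : Fact (Nat.Prime 11) := ⟨by norm_num⟩
  obtain ⟨P⟩ := (inferInstance : Nonempty (Sylow 11 G))
  obtain ⟨d, c, hmem, hd, hC, -, hP⟩ :=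
    exists_opt hG (p := 11) (m := 540) (by decide) hn (by norm_num) (by norm_num) P
  rw [show opts 11 5940 540 = [(45, 6)] by decide +kernel] at hmem
  simp only [List.mem_singleton, Prod.mk.injEq] at hmem
  obtain ⟨rfl, rfl⟩ := hmem
  obtain ⟨-, K, hK, hK6⟩ := exists_centralizer_complement P hP hC
  obtain ⟨_, φ, hφ, -⟩ := exists_centralizer_hom hG (by decide : Odd 11) (hn ▸ by norm_num) P hP
    (k := 4) (by rw [hd]) K hK (by rw [hK6]; norm_num)
  exact card_ne_six_alternating_four φ.range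
    ((Nat.card_congr (MonoidHom.ofInjective hφ).toEquiv).symm.trans hK6)

end Cfsg.Agent.SmallSimple.Below6233
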