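import Cfsg.Agent.Lib.SmallSimple.Below6233.Actions

/-!
# Facts about Sylow 2-subgroups for the orders up to 6232
-/

set_option autoImplicit false
set_option linter.style.haveILetI false
set_option linter.unusedSectionVars false

namespace Cfsg.Agent.SmallSimple.Below6233

open Subgroup MulAction

universe u

/-- A cyclic Sylow `2`-subgroup gives a normal complement. -/
theorem exists_normal_complement_two {H : Type*} [Group H] [Finite H] (S : Sylow 2 H)
    (hS : IsCyclic (S : Subgroup H)) (h2 : 2 ∣ Nat.card H) :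
    ∃ K : Subgroup H, K.Normal ∧ IsComplement' K (S : Subgroup H) := by
  haveI : Fact (Nat.Prime 2) := ⟨Nat.prime_two⟩
  refine ⟨_, MonoidHom.normal_ker _, hS.isComplement' ?_⟩
  have hne : Nat.card H ≠ 1 := fun h => by rw [h] at h2; exact absurd (Nat.le_of_dvd one_pos h2) (by norm_num)
  exact le_antisymm (Nat.minFac_le_of_dvd le_rfl h2) (Nat.minFac_prime hne).two_le

/-- An even number of Sylow subgroups for an odd prime forces `4` to divide the order. -/
theorem four_dvd_of_even_count {H : Type*} [Group H] [Finite H] {p : ℕ} [hp : Fact p.Prime] (hp2 : p ≠ 2)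
    (h : 2 ∣ Nat.card (Sylow p H)) : 4 ∣ Nat.card H := by
  haveI : Fact (Nat.Prime 2) := ⟨Nat.prime_two⟩
  obtain ⟨P⟩ := (inferInstance : Nonempty (Sylow p H))
  by_contra h4
  have h2 : 2 ∣ Nat.card H := h.trans ((P.card_dvd_index).trans (Subgroup.index_dvd_card _))
  obtain ⟨m, hm⟩ := h2
  have hmo : ¬ 2 ∣ m := fun hd => h4 (hm ▸ (show 4 = 2 * 2 from rfl) ▸ mul_dvd_mul_left 2 hd)
  obtain ⟨S⟩ := (inferInstance : Nonempty (Sylow 2 H))
  have hS := SmallSimple.card_sylow_subgroup (p := 2) (k := 1) (by rw [pow_one, hm]) hmo S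
  rw [pow_one] at hS
  obtain ⟨K, hK, hc⟩ := exists_normal_complement_two S (isCyclic_of_prime_card hS) ⟨m, hm⟩
  have hidx : K.index = 2 := by rw [hc.symm.index_eq_card, hS]
  have hKcard : Nat.card K = m := by
    have h1 := Subgroup.card_mul_index K
    rw [hidx, hm] at h1
    omega
  have hle : ∀ Q : Sylow p H, (Q : Subgroup H) ≤ K := fun Q x hx => by
    obtain ⟨k, hk⟩ := Q.isPGroup' ⟨x, hx⟩
    have hk' : x ^ p ^ k = 1 := congrArg Subtype.val hk
    have hx2 : x ^ 2 ∈ K := hidx ▸ Subgroup.pow_index_mem K x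
    obtain ⟨j, hj⟩ : Odd (p ^ k) := (hp.out.odd_of_ne_two hp2).pow
    have : x = (x ^ 2) ^ (j + 1) := by
      rw [← pow_mul, show 2 * (j + 1) = p ^ k + 1 by omega, pow_succ, hk', one_mul]
    rw [this]
    exact pow_mem hx2 _
  have horb : orbit K P = Set.univ := Set.eq_univ_of_forall fun Q => by
    obtain ⟨c, hc'⟩ := MulAction.exists_smul_eq K (P.subtype (hle P)) (Q.subtype (hle Q))
    refine ⟨c, ?_⟩
    rw [Sylow.smul_subtype] at hc'
    exact Sylow.subtype_injective hc'
  have hd : Nat.card (Sylow p H) ∣ Nat.card K :=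
    ⟨_, ((SmallSimple.card_orbit_mul_card_stabilizer (G := K) P).symm.trans
      (by rw [horb, Nat.card_congr (Equiv.Set.univ _)]))⟩
  exact hmo (hKcard ▸ h.trans hd)

variable {G : Type u} [Group G] [Finite G] [IsSimpleGroup G]

/-- No element generates a Sylow `2`-subgroup. -/
theorem false_of_full_two (hG : ¬ IsMulCommutative G) {a m : ℕ} (hn : Nat.card G = 2 ^ a * m)
    (hm : ¬ 2 ∣ m) (ha : 0 < a) {g : G} (hg : orderOf g = 2 ^ a) : False := by
  haveI : Fact (Nat.Prime 2) := ⟨Nat.prime_two⟩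
  have hpg : IsPGroup 2 (zpowers g) := IsPGroup.of_card (n := a) (by rw [Nat.card_zpowers, hg])
  obtain ⟨S, hS⟩ := hpg.exists_le_sylow
  have hScard := card_sylow_subgroup hn hm S
  have heq : zpowers g = (S : Subgroup G) :=
    eq_of_le_of_card_ge hS (by rw [hScard, Nat.card_zpowers, hg])
  have hcyc : IsCyclic (S : Subgroup G) := by rw [← heq]; infer_instance
  have h2 : 2 ∣ Nat.card G := hn ▸ dvd_mul_of_dvd_left (dvd_pow_self 2 ha.ne') m
  obtain ⟨K, hK, hc⟩ := exists_normal_complement_two S hcyc h2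
  exact not_hasNormalPComplement hG h2 ⟨S, K, hK, hc⟩

/-- Sylow `2`-subgroup of order 8: every involution has a centraliser of order divisible by 8. -/
theorem false_of_half (hG : ¬ IsMulCommutative G) {k : ℕ} (hn : Nat.card G = 8 * k) (hk : ¬ 2 ∣ k)
    {t : G} (ht : orderOf t = 2) (hC : ¬ 8 ∣ Nat.card (centralizer ({t} : Set G))) : False := by
  haveI : Fact (Nat.Prime 2) := ⟨Nat.prime_two⟩
  obtain ⟨S, hS⟩ := (IsPGroup.of_card (p := 2) (n := 1) (G := zpowers t)
    (by rw [Nat.card_zpowers, ht, pow_one])).exists_le_sylow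
  have htS : t ∈ (S : Subgroup G) := hS (mem_zpowers t)
  have hScard : Nat.card (S : Subgroup G) = 8 :=
    card_sylow_subgroup (p := 2) (k := 3) (by rw [hn]; norm_num) hk S
  obtain ⟨y, hyS, hy⟩ : ∃ y ∈ (S : Subgroup G), y ^ 2 ≠ 1 := by
    by_contra hc
    push Not at hc
    apply hC
    have hle : (S : Subgroup G) ≤ centralizer ({t} : Set G) := fun a ha => by
      rw [mem_centralizer_singleton_iff]
      have hinv : ∀ b ∈ (S : Subgroup G), b⁻¹ = b := fun b hb =>
        inv_eq_of_mul_eq_one_right (by rw [← sq]; exact hc b hb)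
      have := hinv _ (mul_mem ha htS)
      rw [mul_inv_rev, hinv a ha, hinv t htS] at this
      exact this.symm
    exact hScard ▸ Subgroup.card_dvd_of_le hle
  have hord : orderOf y = 4 := by
    have hd : orderOf y ∣ 2 ^ 3 := by
      rw [show (2 : ℕ) ^ 3 = Nat.card (S : Subgroup G) by rw [hScard]; norm_num]
      exact orderOf_dvd_natCard _ hyS
    obtain ⟨j, hj, he⟩ := (Nat.dvd_prime_pow Nat.prime_two).1 hd
    have h1 : ¬ orderOf y ∣ 2 := fun h => hy (orderOf_dvd_iff_pow_eq_one.1 h)
    interval_cases j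
    · exact absurd (he ▸ one_dvd 2) h1
    · exact absurd (he ▸ dvd_rfl) h1
    · exact he
    · exfalso
      exact false_of_full_two hG (a := 3) (by rw [hn]; norm_num) hk (by norm_num) he
  have hyS' : zpowers y ≤ (S : Subgroup G) := zpowers_le.2 hyS
  have hidx : (zpowers y).relIndex (S : Subgroup G) = 2 := by
    have h := Subgroup.card_mul_index ((zpowers y).subgroupOf (S : Subgroup G))
    rw [Nat.card_congr (subgroupOfEquivOfLe hyS').toEquiv, Nat.card_zpowers, hord, hScard] at h
    show ((zpowers y).subgroupOf (S : Subgroup G)).index = 2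
    omega
  haveI hnorm : ((zpowers y).subgroupOf (S : Subgroup G)).Normal := normal_of_index_eq_two hidx
  -- the only involution of `⟨y⟩` is `y²`, central in `S`
  have huniq : ∀ z ∈ zpowers y, orderOf z = 2 → z = y ^ 2 := by
    intro z hz hz2
    obtain ⟨i, hi, rfl⟩ : ∃ i < 4, y ^ i = z := by
      obtain ⟨i, rfl⟩ := Submonoid.mem_powers_iff _ _ |>.1
        ((isOfFinOrder_of_finite y).mem_powers_iff_mem_zpowers.2 hz)
      refine ⟨i % 4, Nat.mod_lt _ (by norm_num), ?_⟩
      rw [← hord, pow_mod_orderOf]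
    rw [orderOf_pow, hord] at hz2
    interval_cases i <;> first | rfl | exact absurd hz2 (by decide)
  have hy2 : orderOf (y ^ 2) = 2 := by rw [orderOf_pow, hord]; decide
  have hcent : ∀ a ∈ (S : Subgroup G), a * y ^ 2 * a⁻¹ = y ^ 2 := fun a ha => by
    refine huniq _ ?_ ?_
    · have := hnorm.conj_mem ⟨y ^ 2, pow_mem hyS 2⟩ (mem_subgroupOf.2 (pow_mem (mem_zpowers y) 2)) ⟨a, ha⟩
      simpa [mem_subgroupOf] using this
    · rw [← MulAut.conj_apply, MulEquiv.orderOf_eq, hy2]
  have hnot : ∀ g : G, g⁻¹ * t * g ∉ zpowers y := fun g hg => by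
    have ho : orderOf (g⁻¹ * t * g) = 2 := by
      rw [show g⁻¹ * t * g = MulAut.conj g⁻¹ t by simp, MulEquiv.orderOf_eq, ht]
    have heq := huniq _ hg ho
    apply hC
    have hle : (S : Subgroup G) ≤ (centralizer ({t} : Set G)).map (MulAut.conj g⁻¹).toMonoidHom := by
      intro a ha
      refine ⟨g * a * g⁻¹, mem_centralizer_singleton_iff.2 ?_, by simp [mul_assoc]⟩
      have h := mul_inv_eq_iff_eq_mul.1 (hcent a ha)
      rw [← heq] at h
      calc g * a * g⁻¹ * t = g * (a * (g⁻¹ * t * g)) * g⁻¹ := by group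
        _ = g * (g⁻¹ * t * g * a) * g⁻¹ := by rw [h]
        _ = t * (g * a * g⁻¹) := by group
    have hd := Subgroup.card_dvd_of_le hle
    rw [hScard] at hd
    exact hd.trans (card_map_dvd _ _)
  have htQ : t ∉ zpowers y := fun h => hnot 1 (by simpa using h)
  obtain ⟨M, hM, hMi, htM⟩ := Transfer.exists_index_two_of_conj S (zpowers y) hyS' hidx t htS htQ hnot
    (fun g i hi _ => by
      rw [orderOf_dvd_iff_pow_eq_one.1 (show orderOf t ∣ 2 ^ i by rw [ht]; exact dvd_pow_self 2 hi.ne'), mul_one, inv_mul_cancel]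
      exact one_mem _)
  rcases hM.eq_bot_or_eq_top with h | h
  · rw [h, index_bot, hn] at hMi; omega
  · exact htM (h ▸ mem_top t)

omit [IsSimpleGroup G] in
/-- With `|N(P) : C(P)|` a power of two and odd `|C(P)|`, some element of `N(P)` of that order acts
faithfully on `P`. -/
theorem exists_full_element {p a c : ℕ} [hp : Fact p.Prime] (P : Sylow p G)
    (hP : Nat.card (P : Subgroup G) = p) (hC : Nat.card (centralizer ((P : Subgroup G) : Set G)) = c)
    (hc : ¬ 2 ∣ c) (hN : Nat.card (normalizer ((P : Subgroup G) : Set G)) = c * 2 ^ (a + 1)) :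
    ∃ g ∈ normalizer ((P : Subgroup G) : Set G), orderOf g = 2 ^ (a + 1) ∧
      g ^ 2 ^ a ∉ centralizer ((P : Subgroup G) : Set G) := by
  set N := normalizer ((P : Subgroup G) : Set G) with hNdef
  set C := centralizer ((P : Subgroup G) : Set G) with hCdef
  haveI : IsCyclic (P : Subgroup G) := isCyclic_of_prime_card hP
  haveI : IsCyclic (MulAut (P : Subgroup G)) := by
    rw [(IsCyclic.mulAutMulEquiv (P : Subgroup G)).isCyclic, hP]
    infer_instance
  set f := normalizerMonoidHom (P : Subgroup G) with hf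
  have hker : Nat.card f.ker = c := by
    rw [hf, normalizerMonoidHom_ker, ← hC]
    exact Nat.card_congr (subgroupOfEquivOfLe (centralizer_le_normalizer _)).toEquiv
  have hr : Nat.card f.range = 2 ^ (a + 1) := by
    have h := Subgroup.card_mul_index f.ker
    rw [Subgroup.index_ker, hker, hN] at h
    refine Nat.eq_of_mul_eq_mul_left ?_ h
    exact hC ▸ Nat.card_pos
  obtain ⟨⟨_, ⟨g₁, rfl⟩⟩, hgen⟩ := IsCyclic.exists_generator (α := f.range)
  have hord : orderOf (f g₁) = 2 ^ (a + 1) := by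
    rw [← hr, ← orderOf_eq_card_of_forall_mem_zpowers hgen, ← Subgroup.orderOf_coe]
  obtain ⟨i, j, hj, hdec⟩ := Nat.exists_eq_two_pow_mul_odd (orderOf_pos g₁).ne'
  refine ⟨(g₁ ^ j : N), SetLike.coe_mem _, ?_, fun hmem => ?_⟩
  · have hoj : orderOf (g₁ ^ j) = 2 ^ i := by
      rw [orderOf_pow, hdec, Nat.gcd_eq_right (dvd_mul_left j _), Nat.mul_div_cancel _ hj.pos]
    rw [Subgroup.orderOf_coe, hoj]
    have h1 : 2 ^ (a + 1) ∣ 2 ^ i := by
      have h := orderOf_map_dvd f g₁
      rw [hord, hdec] at h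
      exact (Nat.Coprime.pow_left _ (Nat.coprime_two_left.2 hj)).dvd_of_dvd_mul_right h
    have h2 : 2 ^ i ∣ c * 2 ^ (a + 1) := by
      rw [← hN, ← hoj]
      exact orderOf_dvd_natCard _
    exact Nat.dvd_antisymm ((Nat.Coprime.pow_left _ (Nat.prime_two.coprime_iff_not_dvd.2 hc)).dvd_of_dvd_mul_left h2) h1
  · have h1 : (g₁ ^ j) ^ 2 ^ a ∈ f.ker := by
      rw [hf, normalizerMonoidHom_ker]
      refine mem_subgroupOf.2 ?_
      simp only [Subgroup.coe_pow] at hmem ⊢
      exact hmem
    rw [MonoidHom.mem_ker, map_pow, map_pow, ← pow_mul] at h1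
    have h2 : 2 ^ (a + 1) ∣ j * 2 ^ a := hord ▸ orderOf_dvd_of_pow_eq_one h1
    have h3 := (Nat.Coprime.pow_left (a + 1) (Nat.coprime_two_left.2 hj)).dvd_of_dvd_mul_left h2
    have := (Nat.pow_dvd_pow_iff_le_right (by norm_num)).1 h3
    omega

/-- The alternating group of degree four has no subgroup of order six. -/
theorem card_ne_six_alternating_four (H : Subgroup (alternatingGroup (Fin 4))) : Nat.card H ≠ 6 := by
  intro h
  have hidx : H.index = 2 := by
    have h1 := Subgroup.card_mul_index H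
    rw [h, show Nat.card (alternatingGroup (Fin 4)) = 12 by
      rw [Nat.card_eq_fintype_card]; decide +kernel] at h1
    omega
  classical
  have hsub : (Finset.univ.image fun σ : alternatingGroup (Fin 4) => σ ^ 2) ⊆
      Finset.univ.filter (· ∈ H) := fun σ hσ => by
    obtain ⟨τ, -, rfl⟩ := Finset.mem_image.1 hσ
    exact Finset.mem_filter.2 ⟨Finset.mem_univ _, by
      haveI := normal_of_index_eq_two hidx
      exact hidx ▸ Subgroup.pow_index_mem H τ⟩
  have h9 : (Finset.univ.image fun σ : alternatingGroup (Fin 4) => σ ^ 2).card = 9 := by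
    decide +kernel
  have := Finset.card_le_card hsub
  rw [h9, ← Fintype.card_subtype, ← Nat.card_eq_fintype_card] at this
  rw [show Nat.card {x // x ∈ H} = 6 from h] at this
  omega

end Cfsg.Agent.SmallSimple.Below6233
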