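import Cfsg.Agent.Lib.SmallSimple.Below1092.Tools

/-!
# Sylow criteria for the orders up to 6232

`opts` lists the possible pairs (Sylow count, centraliser cofactor) for a prime of exponent one;
`bigDead` is the test for a prime of larger exponent by intersections of index `p`.
-/

set_option autoImplicit false
set_option linter.style.haveILetI false
set_option linter.unusedSectionVars false

namespace Cfsg.Agent.SmallSimple.Below6233

open Subgroup

universe u

/-- An index allowed by the embedding into the alternating group. -/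
def okI (n i : ℕ) : Bool := decide (5 ≤ i) && (decide (20 < i) || decide (i.factorial % (2 * n) = 0))

/-- The candidates for the number of Sylow subgroups. -/
def cands (p n m : ℕ) : List ℕ :=
  ((List.range (m / p + 1)).map fun k => 1 + k * p).filter fun d => decide (m % d = 0) && okI n d

/-- The order of an alternating group. -/
def altCard (k : ℕ) : ℕ := if k < 2 then 1 else k.factorial / 2

/-- The possible pairs of Sylow count and centraliser cofactor. -/
def opts (p n m : ℕ) : List (ℕ × ℕ) :=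
  (cands p n m).flatMap fun d => ((List.range (m / d + 1)).filter fun c =>
    decide (m / d % c = 0) && decide ((p - 1) % (m / d / c) = 0) && decide (m / d / c ≠ 1) &&
      (decide (20 < (d - 1) / p) || decide (altCard ((d - 1) / p) % c = 0))).map fun c => (d, c)

/-- The cofactors of a subgroup holding two Sylow subgroups. -/
def twoSylow (p n m : ℕ) : List ℕ :=
  (List.range (m + 1)).filter fun t => decide (m % t = 0) && okI n (m / t) &&
    (List.range (t + 1)).any fun a => decide (1 < a ∧ t % a = 0 ∧ a % p = 1)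

/-- The order dies at a prime of exponent `e ≥ 2`. -/
def bigDead (p n e m : ℕ) : Bool :=
  (cands p n m).all fun d => decide (d = m ∧ e ≤ 2) ||
    (decide (d % (p * p) ≠ 1) && (twoSylow p n m).isEmpty)

variable {G : Type u} [Group G] [Finite G] [IsSimpleGroup G]

theorem okI_index (hG : ¬ IsMulCommutative G) {H : Subgroup G} (hH : H ≠ ⊤) :
    okI (Nat.card G) H.index = true := by
  classical
  have h5 := five_le_index hG hH
  simp only [okI, Bool.and_eq_true, Bool.or_eq_true, decide_eq_true_eq]
  refine ⟨h5, or_iff_not_imp_left.2 fun _ => Nat.mod_eq_zero_of_dvd ?_⟩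
  haveI := Fintype.ofFinite (G ⧸ H)
  let f : G →* alternatingGroup (G ⧸ H) := (MulAction.toPermHom G (G ⧸ H)).codRestrict _
    (mem_alternating_of_simple hG _)
  have hf : Function.Injective f := fun a b h => toPermHom_injective hH (congrArg Subtype.val h)
  haveI : Nontrivial (G ⧸ H) := Finite.one_lt_card_iff_nontrivial.1 (by
    rw [← Subgroup.index_eq_card]; omega)
  have h2 := Subgroup.card_dvd_of_injective f hf
  have h3 := two_mul_card_alternatingGroup (α := G ⧸ H)
  rw [← Nat.card_eq_fintype_card, ← Nat.card_eq_fintype_card, Nat.card_perm, ← Subgroup.index_eq_card]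
    at h3
  rw [← h3]
  exact mul_dvd_mul_left 2 h2

theorem index_normalizer_sylow {p : ℕ} [Fact p.Prime] (P : Sylow p G) :
    (normalizer ((P : Subgroup G) : Set G)).index = Nat.card (Sylow p G) :=
  (Sylow.card_eq_index_normalizer P).symm

theorem normalizer_sylow_ne_top (hG : ¬ IsMulCommutative G) {p : ℕ} [hp : Fact p.Prime]
    (hd : p ∣ Nat.card G) (P : Sylow p G) : normalizer ((P : Subgroup G) : Set G) ≠ ⊤ := fun h => by
  have h1 := index_normalizer_sylow P
  have h5 := five_le_card_sylow hG hd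
  rw [h, index_top] at h1
  omega

theorem mem_cands (hG : ¬ IsMulCommutative G) {p n e m : ℕ} [hp : Fact p.Prime] (hn : Nat.card G = n)
    (hnm : n = p ^ e * m) (he : 0 < e) (hm : ¬ p ∣ m) (P : Sylow p G) :
    Nat.card (Sylow p G) ∈ cands p n m ∧
      Nat.card (Sylow p G) * Nat.card (normalizer ((P : Subgroup G) : Set G)) = n ∧
      Nat.card (P : Subgroup G) = p ^ e := by
  have hnG : Nat.card G = p ^ e * m := hn.trans hnm
  have hP := card_sylow_subgroup hnG hm P
  have hdvd : p ∣ Nat.card G := hnG ▸ dvd_mul_of_dvd_left (dvd_pow_self p he.ne') m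
  refine ⟨?_, (card_sylow_mul_card_normalizer P).trans hn, hP⟩
  obtain ⟨d, hd⟩ : ∃ d, d = Nat.card (Sylow p G) := ⟨_, rfl⟩
  have hdm : d ∣ m := by
    have h1 := P.card_dvd_index
    have h2 := Subgroup.card_mul_index (P : Subgroup G)
    rw [hP, hnG] at h2
    rw [hd]
    rwa [Nat.eq_of_mul_eq_mul_left (pow_pos hp.out.pos e) h2] at h1
  have hmod : d % p = 1 := hd ▸ Eq.trans (card_sylow_modEq_one p G) (Nat.mod_eq_of_lt hp.out.one_lt)
  have hok : okI n d = true := by
    rw [hd, ← hn, ← index_normalizer_sylow P]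
    exact okI_index hG (normalizer_sylow_ne_top hG hdvd P)
  have hm0 : 0 < m := Nat.pos_of_ne_zero fun h => hm (h ▸ dvd_zero p)
  rw [← hd]
  simp only [cands, List.mem_filter, List.mem_map, List.mem_range, Bool.and_eq_true, decide_eq_true_eq]
  refine ⟨⟨d / p, ?_, ?_⟩, Nat.mod_eq_zero_of_dvd hdm, hok⟩
  · exact Nat.lt_succ_of_le (Nat.div_le_div_right (Nat.le_of_dvd hm0 hdm))
  · have := Nat.mod_add_div d p
    rw [hmod, mul_comm] at this
    exact this

theorem card_alternating_fin (k : ℕ) : Nat.card (alternatingGroup (Fin k)) = altCard k := by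
  classical
  unfold altCard
  split_ifs with hk
  · interval_cases k <;> rw [Nat.card_eq_fintype_card] <;> decide
  · haveI : Nontrivial (Fin k) := Fin.nontrivial_iff_two_le.2 (by omega)
    have h := two_mul_card_alternatingGroup (α := Fin k)
    rw [← Nat.card_eq_fintype_card, Fintype.card_perm, Fintype.card_fin] at h
    omega

/-- A complement of a Sylow subgroup of prime order inside its centraliser. -/
theorem exists_centralizer_complement {p c : ℕ} [hp : Fact p.Prime] (P : Sylow p G)
    (hP : Nat.card (P : Subgroup G) = p)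
    (hC : Nat.card (centralizer ((P : Subgroup G) : Set G)) = p * c) :
    ¬ p ∣ c ∧ ∃ K : Subgroup G, K ≤ centralizer ((P : Subgroup G) : Set G) ∧ Nat.card K = c := by
  set C := centralizer ((P : Subgroup G) : Set G) with hCdef
  haveI : IsMulCommutative (P : Subgroup G) := (isCyclic_of_prime_card hP).isMulCommutative
  have hPC : (P : Subgroup G) ≤ C := le_centralizer _
  have hpc : ¬ p ∣ c := by
    intro h
    obtain ⟨K, hK⟩ := Sylow.exists_subgroup_card_pow_prime (G := C) p (n := 2)
      (by rw [hC, pow_two]; exact mul_dvd_mul_left p h)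
    have hK' : IsPGroup p (K.map C.subtype) :=
      IsPGroup.of_card (n := 2) (by rw [card_map_of_injective C.subtype_injective, hK])
    obtain ⟨Q, hQ⟩ := hK'.exists_le_sylow
    have h1 := Nat.le_of_dvd Nat.card_pos (Subgroup.card_dvd_of_le hQ)
    rw [card_map_of_injective C.subtype_injective, hK, Nat.card_congr (Q.equiv P).toEquiv, hP] at h1
    have := hp.out.two_le
    nlinarith
  refine ⟨hpc, ?_⟩
  haveI : ((P : Subgroup G).subgroupOf C).Normal := by
    refine ⟨fun a ha g => ?_⟩
    have hga : (g : G) * a = a * g :=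
      (mem_centralizer_iff.1 g.2 _ (mem_subgroupOf.1 ha)).symm
    rw [mem_subgroupOf, coe_mul, coe_mul, coe_inv, hga, mul_inv_cancel_right]
    exact mem_subgroupOf.1 ha
  have hcard : Nat.card ((P : Subgroup G).subgroupOf C) = p :=
    (Nat.card_congr (subgroupOfEquivOfLe hPC).toEquiv).trans hP
  have hidx : ((P : Subgroup G).subgroupOf C).index = c := by
    have h := card_mul_index ((P : Subgroup G).subgroupOf C)
    rw [hcard, hC] at h
    exact Nat.eq_of_mul_eq_mul_left hp.out.pos h
  obtain ⟨K, hK⟩ := exists_right_complement'_of_coprime (N := (P : Subgroup G).subgroupOf C)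
    (by rw [hcard, hidx]; exact (hp.out.coprime_iff_not_dvd.2 hpc))
  refine ⟨K.map C.subtype, map_subtype_le _, ?_⟩
  rw [card_map_of_injective C.subtype_injective]
  have h := hK.card_mul_card
  rw [hcard, hC] at h
  exact Nat.eq_of_mul_eq_mul_left hp.out.pos h

/-- The data of a prime of exponent one. -/
theorem exists_opt (hG : ¬ IsMulCommutative G) {p n m : ℕ} [hp : Fact p.Prime] (hp2 : Odd p)
    (hn : Nat.card G = n) (hnm : n = p * m) (hm : ¬ p ∣ m) (P : Sylow p G) :
    ∃ d c, (d, c) ∈ opts p n m ∧ Nat.card (Sylow p G) = d ∧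
      Nat.card (centralizer ((P : Subgroup G) : Set G)) = p * c ∧
      d * Nat.card (normalizer ((P : Subgroup G) : Set G)) = n ∧
      Nat.card (P : Subgroup G) = p := by
  obtain ⟨hd, hmul, hP⟩ := mem_cands hG (e := 1) hn (by rw [pow_one, hnm]) one_pos hm P
  rw [pow_one] at hP
  haveI : IsMulCommutative (P : Subgroup G) := (isCyclic_of_prime_card hP).isMulCommutative
  set C := centralizer ((P : Subgroup G) : Set G) with hC
  set N := normalizer ((P : Subgroup G) : Set G) with hN
  obtain ⟨c, hc⟩ : p ∣ Nat.card C := hP ▸ Subgroup.card_dvd_of_le (le_centralizer (P : Subgroup G))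
  obtain ⟨d, hdd⟩ : ∃ d, Nat.card (Sylow p G) = d := ⟨_, rfl⟩
  rw [hdd] at hd hmul
  refine ⟨d, c, ?_, hdd, hc, hmul, hP⟩
  have hdm : d ∣ m := by
    have := (List.mem_filter.1 hd).2
    simp only [Bool.and_eq_true, decide_eq_true_eq] at this
    exact Nat.dvd_of_mod_eq_zero this.1
  have hdpos : 0 < d := hdd ▸ Nat.card_pos
  obtain ⟨k, hk⟩ : ∃ k, d = 1 + k * p := by
    obtain ⟨k, -, hk⟩ := List.mem_map.1 (List.mem_filter.1 hd).1
    exact ⟨k, hk.symm⟩
  obtain ⟨q, hq⟩ := hdm
  have hmd : m / d = q := by rw [hq, Nat.mul_div_cancel_left _ hdpos]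
  have hNq : Nat.card N = p * q := by
    refine Nat.eq_of_mul_eq_mul_left hdpos (hmul.trans ?_)
    rw [hnm, hq]; ring
  obtain ⟨e, he⟩ : Nat.card C ∣ Nat.card N := Subgroup.card_dvd_of_le (centralizer_le_normalizer _)
  rw [hc, hNq, mul_assoc] at he
  have hqc : q = c * e := Nat.eq_of_mul_eq_mul_left hp.out.pos he
  have hcpos : 0 < c := Nat.pos_of_ne_zero fun h => by
    rw [h, mul_zero] at hc
    exact Nat.card_pos.ne' hc
  have hep : e ∣ p - 1 := by
    have h := card_normalizer_dvd P hP
    rw [← hN, ← hC, hc, hNq, hqc, ← mul_assoc p c e] at h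
    exact Nat.dvd_of_mul_dvd_mul_left (mul_pos hp.out.pos hcpos) h
  have he1 : e ≠ 1 := fun h => by
    refine Below1092.false_of_coprime hG P hP ?_
    rw [← hN, ← hC, hc, hNq, hqc, h, mul_one]
  simp only [opts, List.mem_flatMap, List.mem_map, List.mem_filter, List.mem_range, Bool.and_eq_true,
    Bool.or_eq_true, decide_eq_true_eq]
  refine ⟨d, hd, c, ⟨?_, ⟨⟨?_, ?_⟩, ?_⟩, ?_⟩, rfl⟩
  · rw [hmd, hqc]
    exact Nat.lt_succ_of_le (Nat.le_mul_of_pos_right c (Nat.pos_of_ne_zero fun h => by
      rw [h, mul_zero] at hqc; rw [hqc, mul_zero] at hNq; exact Nat.card_pos.ne' hNq))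
  · rw [hmd, hqc, Nat.mul_mod_right]
  · rw [hmd, hqc, Nat.mul_div_cancel_left _ hcpos]; exact Nat.mod_eq_zero_of_dvd hep
  · rw [hmd, hqc, Nat.mul_div_cancel_left _ hcpos]; exact he1
  · refine or_iff_not_imp_left.2 fun _ => Nat.mod_eq_zero_of_dvd ?_
    obtain ⟨hpc, K, hKle, hKc⟩ := exists_centralizer_complement P hP hc
    obtain ⟨_, φ, hφ, -⟩ := exists_centralizer_hom hG hp2 (hP ▸ card_subgroup_dvd_card _) P hP
      (k := k) (hdd.trans hk) K hKle (hKc ▸ hpc)
    rw [← card_alternating_fin, hk, Nat.add_sub_cancel_left, Nat.mul_div_cancel _ hp.out.pos, ← hKc]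
    exact Subgroup.card_dvd_of_injective φ hφ

/-- A subgroup containing two Sylow subgroups. -/
theorem two_sylow_data (hG : ¬ IsMulCommutative G) {p n e m : ℕ} [hp : Fact p.Prime]
    (hn : Nat.card G = n) (hnm : n = p ^ e * m) (hm : ¬ p ∣ m) {P Q : Sylow p G} (hne : P ≠ Q)
    {H : Subgroup G} (hPH : (P : Subgroup G) ≤ H) (hQH : (Q : Subgroup G) ≤ H) (hH : H ≠ ⊤) :
    ∃ t, t ∈ twoSylow p n m ∧ Nat.card H = p ^ e * t ∧ H.index * t = m ∧
      Nat.card (Sylow p H) ∣ t ∧ 1 < Nat.card (Sylow p H) ∧ Nat.card (Sylow p H) % p = 1 := by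
  have hnG : Nat.card G = p ^ e * m := hn.trans hnm
  have hP := card_sylow_subgroup hnG hm P
  obtain ⟨t, ht⟩ : p ^ e ∣ Nat.card H := hP ▸ Subgroup.card_dvd_of_le hPH
  have htm : H.index * t = m := by
    have h := Subgroup.card_mul_index H
    rw [ht, hnG, mul_assoc] at h
    rw [mul_comm]
    exact Nat.eq_of_mul_eq_mul_left (pow_pos hp.out.pos e) h
  have hd : Nat.card (Sylow p H) ∣ t := by
    have h1 := (P.subtype hPH).card_dvd_index
    have h2 := Subgroup.card_mul_index (P.subtype hPH : Subgroup H)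
    rw [Sylow.coe_subtype, Nat.card_congr (subgroupOfEquivOfLe hPH).toEquiv, hP, ht] at h2
    rw [Sylow.coe_subtype] at h1
    rwa [Nat.eq_of_mul_eq_mul_left (pow_pos hp.out.pos e) h2] at h1
  have h1 : 1 < Nat.card (Sylow p H) := Finite.one_lt_card_iff_nontrivial.2
    ⟨⟨P.subtype hPH, Q.subtype hQH, fun h => hne (Sylow.subtype_injective h)⟩⟩
  have hmod : Nat.card (Sylow p H) % p = 1 :=
    Eq.trans (card_sylow_modEq_one p H) (Nat.mod_eq_of_lt hp.out.one_lt)
  have hm0 : 0 < m := Nat.pos_of_ne_zero fun h => hm (h ▸ dvd_zero p)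
  have htpos : 0 < t := Nat.pos_of_ne_zero fun h => by rw [h, mul_zero] at htm; omega
  refine ⟨t, ?_, ht, htm, hd, h1, hmod⟩
  simp only [twoSylow, List.mem_filter, List.mem_range, Bool.and_eq_true, decide_eq_true_eq, List.any_eq_true]
  refine ⟨Nat.lt_succ_of_le (Nat.le_of_dvd hm0 ⟨H.index, by rw [← htm]; ring⟩),
    ⟨Nat.mod_eq_zero_of_dvd ⟨H.index, by rw [← htm]; ring⟩, ?_⟩,
    Nat.card (Sylow p H), Nat.lt_succ_of_le (Nat.le_of_dvd htpos hd), h1, Nat.mod_eq_zero_of_dvd hd, hmod⟩
  rw [← htm, Nat.mul_div_cancel _ htpos, ← hn]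
  exact okI_index hG hH

/-- Two Sylow subgroups with intersection of index `p`, inside the normaliser of the intersection. -/
theorem exists_index_prime (hG : ¬ IsMulCommutative G) {p n e m : ℕ} [hp : Fact p.Prime]
    (hn : Nat.card G = n) (hnm : n = p ^ e * m) (he : 2 ≤ e) (hm : ¬ p ∣ m)
    (hd : Nat.card (Sylow p G) % (p * p) ≠ 1) :
    ∃ P Q : Sylow p G, P ≠ Q ∧ Nat.card ((P : Subgroup G) ⊓ (Q : Subgroup G) : Subgroup G) = p ^ (e - 1) ∧
      (P : Subgroup G) ≤ normalizer (((P : Subgroup G) ⊓ (Q : Subgroup G) : Subgroup G) : Set G) ∧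
      (Q : Subgroup G) ≤ normalizer (((P : Subgroup G) ⊓ (Q : Subgroup G) : Subgroup G) : Set G) ∧
      normalizer (((P : Subgroup G) ⊓ (Q : Subgroup G) : Subgroup G) : Set G) ≠ ⊤ := by
  classical
  have hnG : Nat.card G = p ^ e * m := hn.trans hnm
  -- an orbit of size `p`
  have hex : ∃ P Q : Sylow p G, P ≠ Q ∧
      ((Q : Subgroup G).subgroupOf (P : Subgroup G)).index ≤ p := by
    obtain ⟨P⟩ := (inferInstance : Nonempty (Sylow p G))
    by_contra hc
    push Not at hc
    apply hd
    letI act : MulAction (P : Subgroup G) {R : Sylow p G // R ≠ P} :=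
      { smul := fun x R => ⟨(x : G) • R.1, fun h => R.2 (by
          rw [eq_inv_smul_iff.2 h]
          exact smul_sylow_eq_iff.2 (le_normalizer (inv_mem x.2)))⟩
        mul_smul := fun a b R => Subtype.ext (mul_smul (a : G) (b : G) R.1)
        one_smul := fun R => Subtype.ext (one_smul G R.1) }
    have hdvd : p * p ∣ Nat.card {R : Sylow p G // R ≠ P} := by
      refine dvd_card_of_dvd_card_orbit (G := (P : Subgroup G)) _ fun R => ?_
      have him : Subtype.val '' (MulAction.orbit (P : Subgroup G) R)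
          = MulAction.orbit (P : Subgroup G) R.1 := by
        ext T
        constructor
        · rintro ⟨_, ⟨x, rfl⟩, rfl⟩; exact ⟨x, rfl⟩
        · rintro ⟨x, rfl⟩; exact ⟨_, ⟨x, rfl⟩, rfl⟩
      rw [← Nat.card_image_of_injective Subtype.val_injective, him, card_orbit_sylow]
      have h1 := hc P R.1 (Ne.symm R.2)
      obtain ⟨j, -, hj⟩ := (Nat.dvd_prime_pow hp.out).1 (card_sylow_subgroup hnG hm P ▸
        Subgroup.index_dvd_card ((R.1 : Subgroup G).subgroupOf (P : Subgroup G)))
      rw [hj] at h1 ⊢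
      rw [← pow_two]
      refine Nat.pow_dvd_pow p ?_
      by_contra hlt
      have := Nat.pow_le_pow_right hp.out.pos (show j ≤ 1 by omega)
      rw [pow_one] at this
      omega
    have hsplit : Nat.card (Sylow p G) = 1 + Nat.card {R : Sylow p G // R ≠ P} := by
      rw [← Nat.card_congr (Equiv.sumCompl (fun R : Sylow p G => R = P)), Nat.card_sum]
      simp
    obtain ⟨q, hq⟩ := hdvd
    rw [hsplit, hq, Nat.add_mul_mod_self_left]
    exact Nat.one_mod_eq_one.2 (by have := hp.out.two_le; nlinarith)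
  obtain ⟨P, Q, hne, hle⟩ := hex
  set D := (P : Subgroup G) ⊓ (Q : Subgroup G) with hDdef
  have hP := card_sylow_subgroup hnG hm P
  have hQ := card_sylow_subgroup hnG hm Q
  have hDlt : D < (P : Subgroup G) := lt_of_le_of_ne inf_le_left fun h => hne (Sylow.ext
    (eq_of_le_of_card_ge (h.symm.le.trans inf_le_right) (hQ.trans hP.symm).le))
  have hidx : ((Q : Subgroup G).subgroupOf (P : Subgroup G)).index = p := by
    obtain ⟨j, hje, hj⟩ := (Nat.dvd_prime_pow hp.out).1 (hP ▸
      Subgroup.index_dvd_card ((Q : Subgroup G).subgroupOf (P : Subgroup G)))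
    rcases Nat.lt_or_ge j 2 with h | h
    · interval_cases j
      · exfalso
        rw [pow_zero, index_eq_one, subgroupOf_eq_top] at hj
        exact hne (Sylow.ext (eq_of_le_of_card_ge hj (hQ.trans hP.symm).le))
      · rw [hj, pow_one]
    · exfalso
      have := Nat.pow_le_pow_right hp.out.pos h
      have := hp.out.two_le
      rw [hj] at hle
      nlinarith
  have hDcard : Nat.card D = p ^ (e - 1) := by
    have h := Subgroup.card_mul_index ((Q : Subgroup G).subgroupOf (P : Subgroup G))
    rw [hidx, hP, ← inf_subgroupOf_left, Nat.card_congr (subgroupOfEquivOfLe inf_le_left).toEquiv] at h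
    refine Nat.eq_of_mul_eq_mul_right hp.out.pos (h.trans ?_)
    rw [← pow_succ]; congr 1; omega
  have hnorm : ∀ R : Sylow p G, D ≤ (R : Subgroup G) → (R : Subgroup G) ≤ normalizer (D : Set G) := by
    intro R hR
    have hR' := card_sylow_subgroup hnG hm R
    have hlt : D < (R : Subgroup G) := lt_of_le_of_ne hR fun h => by
      rw [h, hR'] at hDcard
      have := Nat.pow_right_injective hp.out.two_le hDcard
      omega
    have hgrow := lt_inf_normalizer R.isPGroup' hlt
    have hsub : Nat.card ↥((R : Subgroup G) ⊓ normalizer (D : Set G)) ∣ p ^ e :=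
      hR' ▸ Subgroup.card_dvd_of_le inf_le_left
    obtain ⟨i, hie, hi⟩ := (Nat.dvd_prime_pow hp.out).1 hsub
    have hlt' : p ^ (e - 1) < p ^ i := by
      rw [← hDcard, ← hi]
      by_contra hge
      exact hgrow.ne (eq_of_le_of_card_ge hgrow.le (Nat.le_of_not_lt hge))
    have hei : e - 1 < i := (Nat.pow_lt_pow_iff_right hp.out.one_lt).1 hlt'
    have hieq : i = e := by omega
    have := eq_of_le_of_card_ge (inf_le_left : (R : Subgroup G) ⊓ normalizer (D : Set G) ≤ _)
      (by rw [hi, hR', hieq])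
    exact inf_eq_left.1 this
  refine ⟨P, Q, hne, hDcard, hnorm P inf_le_left, hnorm Q inf_le_right, ?_⟩
  haveI : Group.IsNilpotent D := (P.isPGroup'.to_inf_left).isNilpotent
  refine normalizer_ne_top hG ?_ inferInstance
  intro h
  rw [show D = ⊥ from h, card_bot] at hDcard
  have := Nat.one_lt_pow (show e - 1 ≠ 0 by omega) hp.out.one_lt
  omega

theorem false_of_opts (hG : ¬ IsMulCommutative G) {p n m : ℕ} [hp : Fact p.Prime] (hp2 : Odd p)
    (hn : Nat.card G = n) (hnm : n = p * m) (hm : ¬ p ∣ m) (h : opts p n m = []) : False := by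
  obtain ⟨P⟩ := (inferInstance : Nonempty (Sylow p G))
  obtain ⟨d, c, hmem, -⟩ := exists_opt hG hp2 hn hnm hm P
  rw [h] at hmem
  exact List.not_mem_nil hmem

/-- An abelian Sylow subgroup is not self-normalising. -/
theorem false_of_self_normalizing (hG : ¬ IsMulCommutative G) {p : ℕ} [Fact p.Prime] (P : Sylow p G)
    (hab : IsMulCommutative (P : Subgroup G)) (hd : p ∣ Nat.card G)
    (hN : normalizer ((P : Subgroup G) : Set G) ≤ (P : Subgroup G)) : False := by
  haveI := hab
  exact not_hasNormalPComplement hG hd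
    (Transfer.hasNormalPComplement_of_normalizer_le_centralizer P (hN.trans (le_centralizer _)))

theorem false_of_bigDead (hG : ¬ IsMulCommutative G) {p n e m : ℕ} [hp : Fact p.Prime]
    (hn : Nat.card G = n) (hnm : n = p ^ e * m) (he : 2 ≤ e) (hm : ¬ p ∣ m)
    (h : bigDead p n e m = true) : False := by
  obtain ⟨P⟩ := (inferInstance : Nonempty (Sylow p G))
  obtain ⟨hd, hmul, hP⟩ := mem_cands hG hn hnm (by omega) hm P
  simp only [bigDead, List.all_eq_true, Bool.or_eq_true, Bool.and_eq_true, decide_eq_true_eq,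
    List.isEmpty_iff] at h
  rcases h _ hd with ⟨hdm, he2⟩ | ⟨hmod, hempty⟩
  · have he' : e = 2 := by omega
    subst he'
    have hm0 : 0 < m := Nat.pos_of_ne_zero fun h0 => hm (h0 ▸ dvd_zero p)
    refine false_of_self_normalizing hG P (IsPGroup.isMulCommutative_of_card_eq_prime_sq hP)
      (hP ▸ dvd_trans (dvd_pow_self p two_ne_zero) (dvd_refl _) |>.trans (card_subgroup_dvd_card _)) ?_
    rw [hdm, hnm] at hmul
    refine (eq_of_le_of_card_ge le_normalizer ?_).ge
    rw [hP]
    exact (Nat.eq_of_mul_eq_mul_left hm0 (hmul.trans (mul_comm _ _))).le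
  · obtain ⟨P', Q, hne, -, hPN, hQN, htop⟩ := exists_index_prime hG hn hnm he hm hmod
    obtain ⟨t, ht, -⟩ := two_sylow_data hG hn hnm hm hne hPN hQN htop
    rw [hempty] at ht
    exact List.not_mem_nil ht

end Cfsg.Agent.SmallSimple.Below6233
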