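import Cfsg.Agent.Lib.SmallSimple.Below6233.CasesA

/-!
# The orders 4200, 4400, 5148, 5460
-/

set_option autoImplicit false
set_option linter.style.haveILetI false
set_option linter.unusedSectionVars false

namespace Cfsg.Agent.SmallSimple.Below6233

open Subgroup MulAction

universe u

variable {G : Type u} [Group G] [Finite G] [IsSimpleGroup G]

omit [IsSimpleGroup G] in
theorem mem_centralizer_pair {P : Subgroup G} {t a : G} (ht : t ∈ centralizer (P : Set G)) (ha : a ∈ P) :
    a ∈ centralizer ({t} : Set G) :=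
  mem_centralizer_singleton_iff.2 (ht a ha)

omit [IsSimpleGroup G] in
theorem conj_mem_centralizer {H : Subgroup G} {g x : G} (hg : g ∈ normalizer (H : Set G))
    (hx : x ∈ centralizer (H : Set G)) : g * x * g⁻¹ ∈ centralizer (H : Set G) := by
  rw [mem_centralizer_iff] at hx ⊢
  intro a ha
  have h1 : g⁻¹ * a * g ∈ H := by
    have := (mem_normalizer_iff.1 (inv_mem hg) a).1 ha
    rwa [inv_inv] at this
  have h2 := hx _ h1
  calc a * (g * x * g⁻¹) = g * ((g⁻¹ * a * g) * x) * g⁻¹ := by group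
    _ = g * (x * (g⁻¹ * a * g)) * g⁻¹ := by rw [h2]
    _ = g * x * g⁻¹ * a := by group

omit [IsSimpleGroup G] in
/-- `|P| r` divides `|N(P) ∩ C(t)|`. -/
theorem mul_dvd_inf {p r : ℕ} [hp : Fact p.Prime] [hr : Fact r.Prime] (hne : p ≠ r) (P : Sylow p G)
    (hP : Nat.card (P : Subgroup G) = p) {t : G} (ht : orderOf t = r)
    (htC : t ∈ centralizer ((P : Subgroup G) : Set G)) :
    p * r ∣ Nat.card ↥(normalizer ((P : Subgroup G) : Set G) ⊓ centralizer ({t} : Set G)) := by
  refine ((Nat.coprime_primes hp.out hr.out).2 hne).mul_dvd_of_dvd_of_dvd ?_ ?_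
  · have h := Subgroup.card_dvd_of_le
      (le_inf (le_normalizer (H := (P : Subgroup G))) fun a ha => mem_centralizer_pair htC ha)
    rwa [hP] at h
  · have h := orderOf_dvd_natCard (normalizer ((P : Subgroup G) : Set G) ⊓ centralizer ({t} : Set G))
      (mem_inf.2 ⟨centralizer_le_normalizer _ htC, mem_centralizer_singleton_iff.2 rfl⟩)
    rwa [ht] at h

theorem card_ne_4200 (hG : ¬ IsMulCommutative G) : Nat.card G ≠ 4200 := by
  intro hn
  haveI : Fact (Nat.Prime 7) := ⟨by norm_num⟩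
  haveI : Fact (Nat.Prime 2) := ⟨Nat.prime_two⟩
  obtain ⟨P⟩ := (inferInstance : Nonempty (Sylow 7 G))
  obtain ⟨d, c, hmem, -, hC, hN, hP⟩ :=
    exists_opt hG (p := 7) (m := 600) (by decide) hn (by norm_num) (by norm_num) P
  rw [show opts 7 4200 600 = [(50, 2), (50, 4), (50, 6)] by decide +kernel] at hmem
  simp only [List.mem_cons, List.not_mem_nil, or_false, Prod.mk.injEq] at hmem
  have hd : d = 50 ∧ 2 ∣ c := by rcases hmem with ⟨rfl, rfl⟩ | ⟨rfl, rfl⟩ | ⟨rfl, rfl⟩ <;> norm_num
  obtain ⟨rfl, hc⟩ := hd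
  obtain ⟨t, htC, ht⟩ := exists_order (r := 2) (H := centralizer ((P : Subgroup G) : Set G))
    (by rw [hC]; exact dvd_mul_of_dvd_right hc 7)
  obtain ⟨a, -, ha, hmul⟩ := exists_count P (H := centralizer ({t} : Set G))
    fun x hx => mem_centralizer_pair htC hx
  have h14 := mul_dvd_inf (by norm_num) P hP ht htC
  have h84 := Subgroup.card_dvd_of_le (inf_le_left : normalizer ((P : Subgroup G) : Set G) ⊓
    centralizer ({t} : Set G) ≤ _)
  rw [show Nat.card (normalizer ((P : Subgroup G) : Set G)) = 84 by omega] at h84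
  have hidx := five_le_index hG (centralizer_singleton_ne_top hG
    (fun h => by rw [h, orderOf_one] at ht; omega : t ≠ 1))
  have hG' := Subgroup.card_mul_index (centralizer ({t} : Set G))
  rw [← hmul, hn] at hG'
  have key : ∀ a < 61, ∀ y ≤ 84, (a % 7 = 1 ∧ 14 ∣ y ∧ y ∣ 84 ∧ a * y ∣ 4200 ∧
      5 * (a * y) ≤ 4200) → ¬ 8 ∣ a * y := by decide +kernel
  refine false_of_half hG (k := 525) (by rw [hn]) (by norm_num) ht ?_
  rw [← hmul]
  have hy14 := Nat.le_of_dvd Nat.card_pos h14
  have hay : 5 * (a * Nat.card ↥(normalizer ((P : Subgroup G) : Set G) ⊓ centralizer ({t} : Set G)))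
      ≤ 4200 := by
    rw [← hG', mul_comm 5]
    exact Nat.mul_le_mul_left _ hidx
  refine key a ?_ _ (Nat.le_of_dvd (by norm_num) h84) ⟨ha, h14, h84, Dvd.intro _ hG', hay⟩
  generalize Nat.card ↥(normalizer ((P : Subgroup G) : Set G) ⊓ centralizer ({t} : Set G)) = y at hy14 hay
  nlinarith

theorem card_ne_4400 (hG : ¬ IsMulCommutative G) : Nat.card G ≠ 4400 := by
  intro hn
  haveI : Fact (Nat.Prime 11) := ⟨by norm_num⟩
  haveI : Fact (Nat.Prime 5) := ⟨by norm_num⟩
  haveI : Fact (Nat.Prime 2) := ⟨Nat.prime_two⟩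
  obtain ⟨S⟩ := (inferInstance : Nonempty (Sylow 5 G))
  obtain ⟨hc5, hmul5, hS⟩ := mem_cands hG (p := 5) (e := 2) (m := 176) hn (by norm_num) (by norm_num)
    (by norm_num) S
  rw [show cands 5 4400 176 = [11, 16, 176] by decide +kernel] at hc5
  simp only [List.mem_cons, List.not_mem_nil, or_false] at hc5
  set H := normalizer ((S : Subgroup G) : Set G) with hHdef
  rcases hc5 with h5 | h5 | h5 <;> rw [h5] at hmul5
  · have hidx : H.index = 11 := (index_normalizer_sylow S).trans h5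
    obtain ⟨P⟩ := (inferInstance : Nonempty (Sylow 11 G))
    obtain ⟨d, c, hmem, -, hC, -, hP⟩ :=
      exists_opt hG (p := 11) (m := 400) (by decide) hn (by norm_num) (by norm_num) P
    rw [show opts 11 4400 400 = [(100, 2)] by decide +kernel] at hmem
    simp only [List.mem_singleton, Prod.mk.injEq] at hmem
    obtain ⟨rfl, rfl⟩ := hmem
    obtain ⟨t, htC, ht⟩ := exists_order (r := 2) (H := centralizer ((P : Subgroup G) : Set G))
      (by rw [hC]; norm_num)
    obtain ⟨x, hxP, hx⟩ := exists_order (r := 11) (H := (P : Subgroup G)) hP.symm.dvd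
    obtain ⟨s, b, f, h1, h2, h3, h4, h5', h6, h7, h8, h9, -⟩ :=
      exists_fixed_counts hG (normalizer_sylow_ne_top hG (hn ▸ by norm_num) S) hx ht (htC x hxP)
    have h9' := h9 rfl
    rw [← hHdef, hidx] at *
    omega
  · obtain ⟨y, hyH, hy⟩ := exists_order (r := 11) (H := H)
      (by rw [show Nat.card H = 275 by omega]; norm_num)
    obtain ⟨P, hPy⟩ := exists_sylow_zpowers (m := 400) hn (by norm_num) hy
    obtain ⟨d, c, hmem, -, -, hN, -⟩ :=
      exists_opt hG (p := 11) (m := 400) (by decide) hn (by norm_num) (by norm_num) P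
    rw [show opts 11 4400 400 = [(100, 2)] by decide +kernel] at hmem
    simp only [List.mem_singleton, Prod.mk.injEq] at hmem
    obtain ⟨rfl, rfl⟩ := hmem
    obtain ⟨a, -, ha, hmul⟩ := exists_count P (H := H) (by rw [hPy]; exact zpowers_le.2 hyH)
    have hd44 := Subgroup.card_dvd_of_le
      (inf_le_left : normalizer ((P : Subgroup G) : Set G) ⊓ H ≤ _)
    rw [show Nat.card (normalizer ((P : Subgroup G) : Set G)) = 44 by omega] at hd44
    rw [show Nat.card H = 275 by omega] at hmul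
    have key : ∀ y ≤ 44, y ∣ 44 → ∀ a ≤ 275, a % 11 = 1 → a * y ≠ 275 := by decide +kernel
    refine key _ (Nat.le_of_dvd (by norm_num) hd44) hd44 a ?_ ha hmul
    rw [← hmul]
    exact Nat.le_mul_of_pos_right a Nat.card_pos
  · refine false_of_self_normalizing hG S (IsPGroup.isMulCommutative_of_card_eq_prime_sq hS)
      (hn ▸ by norm_num) (eq_of_le_of_card_ge le_normalizer ?_).ge
    rw [hS, ← hHdef]
    omega

theorem card_ne_5148 (hG : ¬ IsMulCommutative G) : Nat.card G ≠ 5148 := by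
  intro hn
  haveI : Fact (Nat.Prime 11) := ⟨by norm_num⟩
  haveI : Fact (Nat.Prime 3) := ⟨by norm_num⟩
  obtain ⟨P⟩ := (inferInstance : Nonempty (Sylow 11 G))
  obtain ⟨d, c, hmem, hd, hC, hN, hP⟩ :=
    exists_opt hG (p := 11) (m := 468) (by decide) hn (by norm_num) (by norm_num) P
  rw [show opts 11 5148 468 = [(78, 3)] by decide +kernel] at hmem
  simp only [List.mem_singleton, Prod.mk.injEq] at hmem
  obtain ⟨rfl, rfl⟩ := hmem
  obtain ⟨t, htC, ht⟩ := exists_order (r := 3) (H := centralizer ((P : Subgroup G) : Set G))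
    (by rw [hC]; norm_num)
  obtain ⟨x, hxP, hx⟩ := exists_order (r := 11) (H := (P : Subgroup G)) hP.symm.dvd
  obtain ⟨F, hF, hF1, hF2, hF3, -⟩ := sylow_fixed_form hG P hP ht htC
  have hmul := fixed_mul P hP (e := 2) (by rw [hC]; omega) (ht ▸ pow_orderOf_eq_one t) htC (by norm_num)
  rw [hF] at hmul
  rw [hd] at hF2 hF3
  have h33 := mul_dvd_inf (by norm_num) P hP ht htC
  have h66 := Subgroup.card_dvd_of_le (inf_le_left : normalizer ((P : Subgroup G) : Set G) ⊓
    centralizer ({t} : Set G) ≤ _)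
  rw [show Nat.card (normalizer ((P : Subgroup G) : Set G)) = 66 by omega] at h66
  have hG' := Subgroup.card_mul_index (centralizer ({t} : Set G))
  rw [← hmul, hn] at hG'
  have key : ∀ F < 78, ∀ y ≤ 66, (F % 11 = 1 ∧ 3 ∣ 78 - F ∧ 33 ∣ y ∧ y ∣ 66 ∧ F * y ∣ 5148) →
      F * y = 396 := by decide +kernel
  have h396 := key F hF2 _ (Nat.le_of_dvd (by norm_num) h66) ⟨hF1, hF3, h33, h66, Dvd.intro _ hG'⟩
  rw [h396] at hG'
  have hidx : (centralizer ({t} : Set G)).index = 13 := by omega
  obtain ⟨s, b, f, h1, h2, h3, h4, h5, h6, h7, h8, -, -⟩ := exists_fixed_counts hG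
    (centralizer_singleton_ne_top hG (fun h => by rw [h, orderOf_one] at ht; omega : t ≠ 1)) hx ht (htC x hxP)
  rw [hidx] at *
  omega

theorem card_ne_5460 (hG : ¬ IsMulCommutative G) : Nat.card G ≠ 5460 := by
  classical
  intro hn
  haveI : Fact (Nat.Prime 13) := ⟨by norm_num⟩
  haveI : Fact (Nat.Prime 2) := ⟨Nat.prime_two⟩
  obtain ⟨P⟩ := (inferInstance : Nonempty (Sylow 13 G))
  obtain ⟨d, c, hmem, hd, hC, hN, hP⟩ :=
    exists_opt hG (p := 13) (m := 420) (by decide) hn (by norm_num) (by norm_num) P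
  rw [show opts 13 5460 420 = [(105, 1), (105, 2)] by decide +kernel] at hmem
  simp only [List.mem_cons, List.not_mem_nil, or_false, Prod.mk.injEq] at hmem
  rcases hmem with ⟨rfl, rfl⟩ | ⟨rfl, rfl⟩
  · obtain ⟨g, -, hg, -⟩ := exists_full_element (a := 1) P hP hC (by norm_num) (by omega)
    exact false_of_full_two hG (a := 2) (m := 1365) (by rw [hn]; norm_num) (by norm_num) (by norm_num) hg
  set N := normalizer ((P : Subgroup G) : Set G) with hNdef
  set C := centralizer ((P : Subgroup G) : Set G) with hCdef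
  have hN52 : Nat.card N = 52 := by omega
  obtain ⟨t, htC, ht⟩ := exists_order (r := 2) (H := C) (by rw [hC]; norm_num)
  obtain ⟨x, hxP, hx⟩ := exists_order (r := 13) (H := (P : Subgroup G)) hP.symm.dvd
  haveI : IsMulCommutative (P : Subgroup G) := (isCyclic_of_prime_card hP).isMulCommutative
  have hxt : Commute x t := htC x hxP
  have hgen : zpowers (x * t) = C := by
    refine eq_of_le_of_card_ge (zpowers_le.2 (mul_mem (le_centralizer (P : Subgroup G) hxP) htC)) ?_
    rw [Nat.card_zpowers, hxt.orderOf_mul_eq_mul_orderOf_of_coprime (by rw [hx, ht]; norm_num), hx, ht, hC]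
  have huniq : ∀ u ∈ C, orderOf u = 2 → u = t := by
    intro u hu hu2
    rw [← hgen] at hu
    obtain ⟨i, rfl⟩ := Submonoid.mem_powers_iff _ _ |>.1
      ((isOfFinOrder_of_finite (x * t)).mem_powers_iff_mem_zpowers.2 hu)
    have h26 : orderOf (x * t) = 26 := by
      rw [hxt.orderOf_mul_eq_mul_orderOf_of_coprime (by rw [hx, ht]; norm_num), hx, ht]
    have hi : 26 ∣ i * 2 := h26 ▸ orderOf_dvd_of_pow_eq_one (by rw [pow_mul, ← hu2, pow_orderOf_eq_one])
    have hne : ¬ 26 ∣ i := fun h => by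
      rw [orderOf_eq_one_iff.2 (orderOf_dvd_iff_pow_eq_one.1 (h26 ▸ h))] at hu2
      omega
    rw [← pow_mod_orderOf, h26, show i % 26 = 13 by omega, hxt.mul_pow,
      show x ^ 13 = 1 by rw [← hx]; exact pow_orderOf_eq_one x, one_mul,
      show t ^ 13 = t by rw [← pow_mod_orderOf, ht]; norm_num]
  have hNt : N ≤ centralizer ({t} : Set G) := fun n hn' => by
    rw [mem_centralizer_singleton_iff]
    exact mul_inv_eq_iff_eq_mul.1 (huniq _ (conj_mem_centralizer hn' htC)
      (by rw [← MulAut.conj_apply, MulEquiv.orderOf_eq, ht]))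
  have ht1 : t ≠ 1 := fun h => by rw [h, orderOf_one] at ht; omega
  have hCN : centralizer ({t} : Set G) = N := by
    refine (eq_of_le_of_card_ge hNt ?_).symm
    obtain ⟨a, -, ha, hmul⟩ := exists_count P (H := centralizer ({t} : Set G))
      fun y hy => mem_centralizer_pair htC hy
    rw [← hNdef, inf_eq_left.2 hNt, hN52] at hmul
    have hidx := five_le_index hG (centralizer_singleton_ne_top hG ht1)
    have hG' := Subgroup.card_mul_index (centralizer ({t} : Set G))
    rw [← hmul, hn] at hG'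
    have key : ∀ a ≤ 105, a % 13 = 1 → a * 52 ∣ 5460 → a = 1 ∨ a = 105 := by decide +kernel
    have ha105 : a ≤ 105 := by nlinarith
    rcases key a ha105 ha (Dvd.intro _ hG') with rfl | rfl
    · rw [← hmul, hN52]
    · omega
  -- a second fixed Sylow subgroup
  obtain ⟨S, hS⟩ := (IsPGroup.of_card (p := 2) (n := 1) (G := zpowers t)
    (by rw [Nat.card_zpowers, ht, pow_one])).exists_le_sylow
  have hS4 : Nat.card (S : Subgroup G) = 2 ^ 2 :=
    card_sylow_subgroup (k := 2) (m := 1365) (by rw [hn]; norm_num) (by norm_num) S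
  have hab := IsPGroup.isMulCommutative_of_card_eq_prime_sq hS4
  obtain ⟨g, hg, hgne⟩ := exists_commuting_conj hG S hab (hS (mem_zpowers t)) ht1
  have hmemN : ∀ g : G, t • (g • P) = g • P ↔ g * t * g⁻¹ ∈ N := fun g => by
    rw [← hCN, mem_centralizer_singleton_iff]
    have h1 : t • (g • P) = g • P ↔ g⁻¹ * t * g ∈ N := by
      rw [hNdef, ← smul_sylow_eq_iff, mul_smul, mul_smul, inv_smul_eq_iff]
    rw [h1, ← hCN, mem_centralizer_singleton_iff]
    constructor
    · intro h
      calc g * t * g⁻¹ * t = g * (t * (g⁻¹ * t * g)) * g⁻¹ := by group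
        _ = g * (g⁻¹ * t * g * t) * g⁻¹ := by rw [h]
        _ = t * (g * t * g⁻¹) := by group
    · intro h
      calc g⁻¹ * t * g * t = g⁻¹ * (t * (g * t * g⁻¹)) * g := by group
        _ = g⁻¹ * (g * t * g⁻¹ * t) * g := by rw [h]
        _ = t * (g⁻¹ * t * g) := by group
  have hfixg : t • (g • P) = g • P := by
    rw [hmemN, ← hCN, mem_centralizer_singleton_iff]
    exact congrArg Subtype.val (mul_comm' (⟨_, hg⟩ : (S : Subgroup G)) ⟨t, hS (mem_zpowers t)⟩)
  have hgP : g • P ≠ P := fun h => hgne (by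
    have hgN : g ∈ N := smul_sylow_eq_iff.1 h
    rw [← hCN, mem_centralizer_singleton_iff] at hgN
    rw [hgN, mul_inv_cancel_right])
  obtain ⟨F, hF, hF1, hF2, -, hF4⟩ := sylow_fixed_form hG P hP ht htC
  rw [hd] at hF2 hF4
  have hF4' := hF4 rfl
  have h2F : 2 ≤ F := by
    rw [← hF]
    refine Finite.one_lt_card_iff_nontrivial.2 ⟨⟨g • P, hfixg⟩, ⟨P, ?_⟩, fun h => hgP (congrArg Subtype.val h)⟩
    exact smul_sylow_eq_iff.2 (centralizer_le_normalizer _ htC)
  have hinj : F ≤ 52 := by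
    rw [← hF, ← hN52]
    choose f hf using fun Q : Sylow 13 G => exists_smul_eq G P Q
    refine Nat.card_le_card_of_injective
      (fun Q : {Q : Sylow 13 G // t • Q = Q} => (⟨f Q.1 * t * (f Q.1)⁻¹,
        (hmemN _).1 (by rw [hf]; exact Q.2)⟩ : N)) ?_
    rintro ⟨Q, hQ⟩ ⟨R, hR⟩ h
    have h' : f Q * t * (f Q)⁻¹ = f R * t * (f R)⁻¹ := congrArg Subtype.val h
    have hmem : (f R)⁻¹ * f Q ∈ N := by
      rw [← hCN, mem_centralizer_singleton_iff]
      calc (f R)⁻¹ * f Q * t = (f R)⁻¹ * (f Q * t * (f Q)⁻¹) * f Q := by group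
        _ = (f R)⁻¹ * (f R * t * (f R)⁻¹) * f Q := by rw [h']
        _ = t * ((f R)⁻¹ * f Q) := by group
    apply Subtype.ext
    show Q = R
    rw [← hf Q, ← hf R]
    conv_rhs => rw [← smul_sylow_eq_iff.2 hmem, ← mul_smul, mul_inv_cancel_left]
  omega

end Cfsg.Agent.SmallSimple.Below6233
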