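import Cfsg.Agent.Lib.SmallSimple.Below6233.Criteria
import Cfsg.Agent.Lib.SmallSimple.SylowFixed
import Cfsg.Agent.Lib.Transfer.Thompson

/-!
# Fixed-point and intersection counting for the orders up to 6232
-/

set_option autoImplicit false
set_option linter.style.haveILetI false
set_option linter.unusedSectionVars false

namespace Cfsg.Agent.SmallSimple.Below6233

open Subgroup MulAction
open scoped Pointwise

universe u

variable {G : Type u} [Group G] [Finite G]

/-- Elements of prime order acting on an invariant set. -/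
theorem card_invariant_modEq {X : Type*} [MulAction G X] [Finite X] {x : G} {p : ℕ} [hp : Fact p.Prime]
    (hx : x ^ p = 1) (S : Set X) (hS : ∀ y ∈ S, x • y ∈ S) :
    Nat.card {y : X // y ∈ S} ≡ Nat.card {y : X // y ∈ S ∧ x • y = y} [MOD p] := by
  have hpow : ∀ (k : ℕ) (y : X), y ∈ S → x ^ k • y ∈ S := fun k => by
    induction k with
    | zero => intro y hy; rwa [pow_zero, one_smul]
    | succ k ih => intro y hy; rw [pow_succ, mul_smul]; exact ih _ (hS y hy)
  have hmem : ∀ g ∈ zpowers x, ∀ y ∈ S, g • y ∈ S := fun g hg y hy => by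
    rw [mem_zpowers_iff] at hg
    obtain ⟨i, rfl⟩ := hg
    obtain ⟨k, hk⟩ : ∃ k : ℕ, x ^ i = x ^ k := by
      obtain ⟨k, hk⟩ := Submonoid.mem_powers_iff _ x |>.1
        ((isOfFinOrder_of_finite x).mem_powers_iff_mem_zpowers.2 (mem_zpowers_iff.2 ⟨i, rfl⟩))
      exact ⟨k, hk.symm⟩
    rw [hk]
    exact hpow k y hy
  letI act : MulAction (zpowers x) {y : X // y ∈ S} :=
    { smul := fun g y => ⟨(g : G) • y.1, hmem g g.2 y.1 y.2⟩
      mul_smul := fun a b y => Subtype.ext (mul_smul (a : G) (b : G) y.1)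
      one_smul := fun y => Subtype.ext (one_smul G y.1) }
  have hp' : IsPGroup p (zpowers x) := fun ⟨g, hg⟩ => ⟨1, Subtype.ext (by
    obtain ⟨i, rfl⟩ := mem_zpowers_iff.1 hg
    show (x ^ i) ^ p ^ 1 = 1
    rw [pow_one, ← zpow_natCast, ← zpow_mul, mul_comm, zpow_mul, zpow_natCast, hx, one_zpow])⟩
  refine (hp'.card_modEq_card_fixedPoints (α := {y : X // y ∈ S})).trans
    (congrArg (· % p) (Nat.card_congr
      { toFun := fun y => ⟨y.1.1, y.1.2, congrArg Subtype.val (y.2 ⟨x, mem_zpowers x⟩)⟩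
        invFun := fun y => ⟨⟨y.1, y.2.1⟩, fun g => Subtype.ext (by
          have hst : zpowers x ≤ stabilizer G y.1 := zpowers_le.2 y.2.2
          exact hst g.2)⟩
        left_inv := fun _ => rfl
        right_inv := fun _ => rfl }))

theorem card_fixed_le {X : Type*} [MulAction G X] [Finite X] (x : G) :
    Nat.card {y : X // x • y = y} ≤ Nat.card X :=
  Nat.card_le_card_of_injective Subtype.val Subtype.val_injective

variable [IsSimpleGroup G]

theorem card_fixed_lt {X : Type*} [MulAction G X] [Finite X]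
    (hne : ∃ g, toPermHom G X g ≠ 1) {z : G} (hz : z ≠ 1) :
    Nat.card {y : X // z • y = y} < Nat.card X := by
  by_contra hge
  apply hz
  apply injective_of_simple (toPermHom G X) hne
  rw [map_one]
  refine Equiv.ext fun y => ?_
  show z • y = y
  have hsurj : Function.Surjective (Subtype.val : {y : X // z • y = y} → X) :=
    (Nat.bijective_iff_injective_and_card (Subtype.val : {y : X // z • y = y} → X)).2
      ⟨Subtype.val_injective, le_antisymm (card_fixed_le z) (Nat.le_of_not_lt hge)⟩ |>.2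
  obtain ⟨w, rfl⟩ := hsurj y
  exact w.2

/-- Commuting elements of prime orders `p`, `r` on the cosets of `H`: the numbers `s`, `f` of fixed
points and `b` of common fixed points. -/
theorem exists_fixed_counts (hG : ¬ IsMulCommutative G) {H : Subgroup G} (hH : H ≠ ⊤) {x z : G}
    {p r : ℕ} [hp : Fact p.Prime] [hr : Fact r.Prime] (hx : orderOf x = p) (hz : orderOf z = r)
    (hc : Commute x z) :
    ∃ s b f : ℕ, s < H.index ∧ p ∣ H.index - s ∧ b ≤ s ∧ r ∣ s - b ∧ b ≤ f ∧ p ∣ f - b ∧
      f < H.index ∧ r ∣ H.index - f ∧ (r = 2 → 4 ∣ H.index - f) ∧ (¬ p ∣ Nat.card H → s = 0) := by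
  have hne := toPermHom_ne_one_of_index H hH
  have hm : Nat.card (G ⧸ H) = H.index := (index_eq_card H).symm
  have hxp : x ^ p = 1 := hx ▸ pow_orderOf_eq_one x
  have hzr : z ^ r = 1 := hz ▸ pow_orderOf_eq_one z
  have hx1 : x ≠ 1 := fun h => hp.out.one_lt.ne (by rw [← hx, h, orderOf_one])
  have hz1 : z ≠ 1 := fun h => hr.out.one_lt.ne (by rw [← hz, h, orderOf_one])
  obtain ⟨s, hs⟩ : ∃ s, Nat.card {y : G ⧸ H // x • y = y} = s := ⟨_, rfl⟩
  obtain ⟨f, hf⟩ : ∃ f, Nat.card {y : G ⧸ H // z • y = y} = f := ⟨_, rfl⟩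
  obtain ⟨b, hb⟩ : ∃ b, Nat.card {y : G ⧸ H // x • y = y ∧ z • y = y} = b := ⟨_, rfl⟩
  have hbs : b ≤ s := hb ▸ hs ▸ Nat.card_le_card_of_injective
    (fun y : {y : G ⧸ H // x • y = y ∧ z • y = y} => (⟨y.1, y.2.1⟩ : {y : G ⧸ H // x • y = y}))
    fun a b h => Subtype.ext (congrArg (fun w : {y : G ⧸ H // x • y = y} => w.1) h)
  have hbf : b ≤ f := hb ▸ hf ▸ Nat.card_le_card_of_injective
    (fun y : {y : G ⧸ H // x • y = y ∧ z • y = y} => (⟨y.1, y.2.2⟩ : {y : G ⧸ H // z • y = y}))
    fun a b h => Subtype.ext (congrArg (fun w : {y : G ⧸ H // z • y = y} => w.1) h)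
  have hsm : s < H.index := hs ▸ hm ▸ card_fixed_lt hne hx1
  have hfm : f < H.index := hf ▸ hm ▸ card_fixed_lt hne hz1
  have hswap : ∀ (a c : G), Commute a c → ∀ y : G ⧸ H, c • y = y → c • a • y = a • y :=
    fun a c h y hy => by rw [← mul_smul, ← h.eq, mul_smul, hy]
  have e1 := card_invariant_modEq (p := r) hzr {y : G ⧸ H | x • y = y} (fun y hy => hswap z x hc.symm y hy)
  have e2 := card_invariant_modEq (p := p) hxp {y : G ⧸ H | z • y = y} (fun y hy => hswap x z hc y hy)
  simp only [Set.mem_ofPred_eq] at e1 e2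
  rw [hs, hb] at e1
  rw [hf, Nat.card_congr (Equiv.subtypeEquivRight fun y => and_comm), hb] at e2
  have e3 := card_modEq_fixed (X := G ⧸ H) (q := p) hxp
  have e4 := card_modEq_fixed (X := G ⧸ H) (q := r) hzr
  rw [hm, hs] at e3
  rw [hm, hf] at e4
  refine ⟨s, b, f, hsm, (Nat.modEq_iff_dvd' hsm.le).1 e3.symm, hbs, (Nat.modEq_iff_dvd' hbs).1 e1.symm,
    hbf, (Nat.modEq_iff_dvd' hbf).1 e2.symm, hfm, (Nat.modEq_iff_dvd' hfm.le).1 e4.symm, fun h2 => ?_,
    fun hH' => ?_⟩
  · have h4 := four_dvd_moved hG hne (hz.trans h2)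
    rwa [hm, hf] at h4
  · rw [← hs, Nat.card_eq_zero]
    refine Or.inl ⟨fun ⟨y, hy⟩ => hH' ?_⟩
    obtain ⟨g, rfl⟩ := QuotientGroup.mk_surjective y
    rw [Quotient.smul_mk, QuotientGroup.eq] at hy
    have hmem : g⁻¹ * x * g ∈ H := by
      have := inv_mem hy
      simpa [mul_assoc] using this
    have ho : orderOf (g⁻¹ * x * g) = p := by
      rw [← hx, ← MulEquiv.orderOf_eq (MulAut.conj g⁻¹) x]
      simp
    exact ho ▸ orderOf_dvd_natCard H hmem

/-- The Sylow subgroups fixed by an element centralising one of prime order. -/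
theorem sylow_fixed_form (hG : ¬ IsMulCommutative G) {p r : ℕ} [hp : Fact p.Prime] [hr : Fact r.Prime]
    (P : Sylow p G) (hP : Nat.card (P : Subgroup G) = p) {t : G} (ht : orderOf t = r)
    (htC : t ∈ centralizer ((P : Subgroup G) : Set G)) :
    ∃ F, Nat.card {Q : Sylow p G // t • Q = Q} = F ∧ F % p = 1 ∧ F < Nat.card (Sylow p G) ∧
      r ∣ Nat.card (Sylow p G) - F ∧ (r = 2 → 4 ∣ Nat.card (Sylow p G) - F) := by
  have hd : p ∣ Nat.card G := hP ▸ card_subgroup_dvd_card _
  have hne : ∃ g, toPermHom G (Sylow p G) g ≠ 1 := by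
    have h5 := five_le_card_sylow hG hd
    obtain ⟨Q, hQ⟩ : ∃ Q : Sylow p G, Q ≠ P := by
      haveI : Nontrivial (Sylow p G) := Finite.one_lt_card_iff_nontrivial.1 (by omega)
      exact exists_ne P
    obtain ⟨g, hg⟩ := exists_smul_eq G P Q
    exact ⟨g, fun h => hQ (by rw [← hg]; exact congrArg (fun σ : Equiv.Perm (Sylow p G) => σ P) h)⟩
  have ht1 : t ≠ 1 := fun h => hr.out.one_lt.ne (by rw [← ht, h, orderOf_one])
  have htr : t ^ r = 1 := ht ▸ pow_orderOf_eq_one t
  obtain ⟨x, hxP, hx⟩ : ∃ x ∈ (P : Subgroup G), orderOf x = p := by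
    obtain ⟨x, hx⟩ := exists_prime_orderOf_dvd_card' (G := (P : Subgroup G)) p hP.symm.dvd
    exact ⟨x, x.2, by rw [Subgroup.orderOf_coe, hx]⟩
  have hx1 : x ≠ 1 := fun h => hp.out.one_lt.ne (by rw [← hx, h, orderOf_one])
  have hPfix : t • P = P := smul_sylow_eq_iff.2 (centralizer_le_normalizer _ htC)
  have e := card_invariant_modEq (p := p) (x := x) (by rw [← hx]; exact pow_orderOf_eq_one x)
    {Q : Sylow p G | t • Q = Q} (fun Q hQ => by
      show t • x • Q = x • Q
      rw [← mul_smul, ← htC x hxP, mul_smul, show t • Q = Q from hQ])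
  have h1 : Nat.card {Q : Sylow p G // t • Q = Q ∧ x • Q = Q} = 1 := by
    rw [Nat.card_eq_one_iff_unique]
    refine ⟨⟨fun a b => Subtype.ext ?_⟩, ⟨⟨P, hPfix, smul_sylow_eq_iff.2 (le_normalizer hxP)⟩⟩⟩
    have key : ∀ w : {Q : Sylow p G // t • Q = Q ∧ x • Q = Q}, w.1 = P := fun w => by
      by_contra hw
      exact hx1 (eq_one_of_smul_eq hP hw hxP w.2.2)
    rw [key a, key b]
  simp only [Set.mem_ofPred_eq] at e
  rw [h1] at e
  refine ⟨_, rfl, Eq.trans e (Nat.mod_eq_of_lt hp.out.one_lt), card_fixed_lt hne ht1,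
    (Nat.modEq_iff_dvd' (card_fixed_le t)).1 (card_modEq_fixed htr).symm, fun h2 =>
      four_dvd_moved hG hne (ht.trans h2)⟩

omit [IsSimpleGroup G] in
/-- An element of `N(P)` of order prime to `|N(P) : C(P)|` centralises `P`. -/
theorem mem_centralizer_of_pow {p : ℕ} (P : Sylow p G) {z : G} {r e : ℕ}
    (hNe : Nat.card (normalizer ((P : Subgroup G) : Set G)) =
      Nat.card (centralizer ((P : Subgroup G) : Set G)) * e)
    (hz : z ∈ normalizer ((P : Subgroup G) : Set G)) (hzr : z ^ r = 1) (hco : r.Coprime e) :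
    z ∈ centralizer ((P : Subgroup G) : Set G) := by
  set C := centralizer ((P : Subgroup G) : Set G) with hCdef
  set N := normalizer ((P : Subgroup G) : Set G) with hNdef
  haveI : (C.subgroupOf N).Normal := by
    rw [hCdef, hNdef, ← normalizerMonoidHom_ker]
    exact MonoidHom.normal_ker _
  have hidx : (C.subgroupOf N).index = e := by
    have h := Subgroup.card_mul_index (C.subgroupOf N)
    rw [Nat.card_congr (subgroupOfEquivOfLe (centralizer_le_normalizer (P : Subgroup G))).toEquiv,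
      hNe] at h
    exact Nat.eq_of_mul_eq_mul_left Nat.card_pos h
  have h1 : z ^ e ∈ C := by
    have := Subgroup.pow_index_mem (C.subgroupOf N) ⟨z, hz⟩
    rw [hidx] at this
    simpa [mem_subgroupOf] using this
  have hb := Nat.gcd_eq_gcd_ab r e
  rw [hco] at hb
  have h2 := mul_mem (zpow_mem (show z ^ r ∈ C by rw [hzr]; exact one_mem C) (r.gcdA e))
    (zpow_mem h1 (r.gcdB e))
  rwa [← zpow_natCast z, ← zpow_natCast z, ← zpow_mul, ← zpow_mul, ← zpow_add, ← hb, Nat.cast_one,
    zpow_one] at h2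

omit [IsSimpleGroup G] in
/-- Fixed Sylow subgroups times `|N(P) ∩ C(t)|`, for `t` of order prime to `|N(P) : C(P)|`. -/
theorem fixed_mul {p r e : ℕ} [Fact p.Prime] (P : Sylow p G) (hP : Nat.card (P : Subgroup G) = p)
    (hNe : Nat.card (normalizer ((P : Subgroup G) : Set G)) =
      Nat.card (centralizer ((P : Subgroup G) : Set G)) * e)
    {t : G} (ht : t ^ r = 1) (htC : t ∈ centralizer ((P : Subgroup G) : Set G)) (hco : r.Coprime e) :
    Nat.card {Q : Sylow p G // t • Q = Q} *
        Nat.card ↥(normalizer ((P : Subgroup G) : Set G) ⊓ centralizer ({t} : Set G)) =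
      Nat.card (centralizer ({t} : Set G)) := by
  refine (card_fixed_sylow P hP htC fun z hz hzt => ?_).1
  obtain ⟨g, rfl⟩ := isConj_iff.1 hzt
  exact mem_centralizer_of_pow P hNe hz (r := r) (by rw [conj_pow, ht, mul_one, mul_inv_cancel]) hco

omit [IsSimpleGroup G] in
/-- Sylow counting inside an overgroup of `P`. -/
theorem exists_count {p : ℕ} [Fact p.Prime] (P : Sylow p G) {H : Subgroup G} (hPH : (P : Subgroup G) ≤ H) :
    ∃ a, Nat.card (Sylow p H) = a ∧ a % p = 1 ∧
      a * Nat.card ↥(normalizer ((P : Subgroup G) : Set G) ⊓ H) = Nat.card H := by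
  refine ⟨_, rfl, Eq.trans (card_sylow_modEq_one p H) (Nat.mod_eq_of_lt (Fact.out : p.Prime).one_lt), ?_⟩
  have hst : stabilizer H (P.subtype hPH) =
      (normalizer ((P : Subgroup G) : Set G)).subgroupOf H := by
    ext h
    rw [mem_stabilizer_iff, mem_subgroupOf, ← smul_sylow_eq_iff, Sylow.smul_subtype]
    exact ⟨fun e => Sylow.subtype_injective e, fun e => by congr 1⟩
  have h := card_orbit_mul_card_stabilizer (G := H) (P.subtype hPH)
  rw [MulAction.orbit_eq_univ, Nat.card_congr (Equiv.Set.univ _), hst, ← inf_subgroupOf_right,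
    Nat.card_congr (subgroupOfEquivOfLe inf_le_right).toEquiv] at h
  exact h

omit [IsSimpleGroup G] in
/-- Pairs of Sylow subgroups with a prescribed intersection. -/
theorem pair_count {p : ℕ} [Fact p.Prime] (D : Subgroup G) (F : Finset (Sylow p G))
    (hF : ∀ Q ∈ F, ∀ R ∈ F, Q ≠ R → (Q : Subgroup G) ⊓ (R : Subgroup G) = D) :
    (normalizer (D : Set G)).index * (F.card * F.card - F.card) ≤
      Nat.card (Sylow p G) * Nat.card (Sylow p G) - Nat.card (Sylow p G) := by
  classical
  haveI := Fintype.ofFinite G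
  haveI := Fintype.ofFinite (Sylow p G)
  haveI := Fintype.ofFinite (G ⧸ normalizer (D : Set G))
  rw [index_eq_card, ← Finset.offDiag_card, Nat.card_eq_fintype_card, Nat.card_eq_fintype_card,
    ← Finset.card_univ, ← Finset.card_univ (α := Sylow p G), ← Finset.offDiag_card, ← Finset.card_product]
  refine Finset.card_le_card_of_injOn (fun w => (w.1.out • w.2.1, w.1.out • w.2.2)) ?_ ?_
  · intro w hw
    simp only [Finset.coe_product, Set.mem_prod, Finset.mem_coe, Finset.mem_offDiag] at hw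
    simp only [Finset.mem_coe, Finset.mem_offDiag, Finset.mem_univ, true_and, ne_eq,
      smul_left_cancel_iff]
    exact hw.2.2.2
  · rintro ⟨a, Q, R⟩ hw ⟨a', Q', R'⟩ hw' he
    simp only [Finset.coe_product, Set.mem_prod, Finset.mem_coe, Finset.mem_offDiag] at hw hw'
    simp only [Prod.mk.injEq] at he
    have key : ∀ (g : G) (A B : Sylow p G), (A : Subgroup G) ⊓ (B : Subgroup G) = D →
        ((g • A : Sylow p G) : Subgroup G) ⊓ ((g • B : Sylow p G) : Subgroup G) =
          D.map (MulAut.conj g).toMonoidHom := fun g A B h => by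
      rw [← h, Sylow.coe_subgroup_smul, Sylow.coe_subgroup_smul,
        map_inf _ _ _ (MulAut.conj g).injective]
      rfl
    have h1 := key a.out Q R (hF Q hw.2.1 R hw.2.2.1 hw.2.2.2)
    rw [he.1, he.2, key a'.out Q' R' (hF Q' hw'.2.1 R' hw'.2.2.1 hw'.2.2.2)] at h1
    have hmemN : a.out⁻¹ * a'.out ∈ normalizer (D : Set G) := by
      rw [mem_normalizer_iff]
      intro y
      have hiff : ∀ (g y : G), g * y * g⁻¹ ∈ D.map (MulAut.conj g).toMonoidHom ↔ y ∈ D := fun g y => by
        rw [show g * y * g⁻¹ = (MulAut.conj g).toMonoidHom y from rfl,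
          mem_map_iff_mem (MulAut.conj g).injective]
      rw [← hiff a'.out y, h1, ← hiff a.out (a.out⁻¹ * a'.out * y * (a.out⁻¹ * a'.out)⁻¹)]
      rw [show a.out * (a.out⁻¹ * a'.out * y * (a.out⁻¹ * a'.out)⁻¹) * a.out⁻¹ =
        a'.out * y * a'.out⁻¹ by group]
    have haa : a = a' := by
      have := (QuotientGroup.eq.2 hmemN : (a.out : G ⧸ normalizer (D : Set G)) = a'.out)
      rwa [QuotientGroup.out_eq', QuotientGroup.out_eq'] at this
    subst haa
    simp only [smul_left_cancel_iff] at he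
    rw [he.1, he.2]

/-- An element of an abelian Sylow subgroup commutes with another of its conjugates. -/
theorem exists_commuting_conj (hG : ¬ IsMulCommutative G) {p : ℕ} [Fact p.Prime] (P : Sylow p G)
    (hab : IsMulCommutative (P : Subgroup G)) {x : G} (hxP : x ∈ (P : Subgroup G)) (hx : x ≠ 1) :
    ∃ g : G, g * x * g⁻¹ ∈ (P : Subgroup G) ∧ g * x * g⁻¹ ≠ x := by
  by_contra hc
  push Not at hc
  apply hx
  have hmem : x ∈ (P : Subgroup G) ⊓ centralizer (normalizer ((P : Subgroup G) : Set G) : Set G) ⊓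
      _root_.commutator G := by
    refine ⟨⟨hxP, mem_centralizer_iff.2 fun n hn => ?_⟩, ?_⟩
    · exact mul_inv_eq_iff_eq_mul.1 (hc n ((mem_normalizer_iff.1 hn x).1 hxP))
    · rcases (inferInstance : (_root_.commutator G).Normal).eq_bot_or_eq_top with h | h
      · exfalso
        apply hG
        refine isMulCommutative_iff.2 fun a b => commutatorElement_eq_one_iff_mul_comm.1 ?_
        have := commutator_mem_commutator (mem_top a) (mem_top b)
        rwa [← commutator_def, h, mem_bot] at this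
      · rw [h]; exact mem_top x
  have h0 := Transfer.inf_centralizer_normalizer_inf_commutator_eq_bot P hab
  exact mem_bot.1 (h0.le hmem)

end Cfsg.Agent.SmallSimple.Below6233
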